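import Cfsg.Agent.OddHalf.NI3.Ex.FiRow.Twin
import Cfsg.Agent.R08.CohUniq
import Cfsg.Agent.TSp.Orders
import Cfsg.Agent.OddHalf.D3.EvDiag

/-!
# (EX3), row `Fi22`: the inner automorphisms (helper286)

`inner`: the centralizer of an involution of `Fi22` has no component, or it is `2.U₆(2)`.
-/

set_option autoImplicit false
set_option linter.style.haveILetI false

namespace Cfsg.Agent.OddHalf.NI3.Ex.FiRow.Inner

open Subgroup Cfsg Cfsg.Agent.OddHalf.NI Cfsg.Agent.OddHalf.NI.Ex
open Cfsg.Agent.OddHalf.NI3.Ex.FiRow.Base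
open Cfsg.Agent.OddHalf.D3.EvDiag (qi)

theorem cube {x y : Spor.Fi22} (hx : x ∈ T) (hy : y ∈ T) : x * y = y * x ∨ (x * y) ^ 3 = 1 := by
  rcases kt.three x hx y hy with h | h
  · exact Or.inl h
  · right
    have xx := kt.sq x hx
    have yy := kt.sq y hy
    calc (x * y) ^ 3 = (x * y * x) * (y * x * y) := by rw [pow_succ, pow_two]; group
      _ = (y * x * y) * (y * x * y) := by rw [h]
      _ = y * x * (y * y) * x * y := by group
      _ = y * (x * x) * y := by rw [yy]; group
      _ = 1 := by rw [xx, mul_one, yy]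

/-- commuting triples -/
structure Tri (s a b c : Spor.Fi22) : Prop where
  ma : a ∈ T
  mb : b ∈ T
  mc : c ∈ T
  ab : a ≠ b
  ac : a ≠ c
  bc : b ≠ c
  cab : a * b = b * a
  cac : a * c = c * a
  cbc : b * c = c * b
  eq : s = a * b * c

theorem Tri.comm {s a b c x : Spor.Fi22} (h : Tri s a b c) (hx : x ∈ T) (hc : x * s = s * x) : x * a = a * x := by
  have sx := kt.sq x hx
  have sa := kt.sq a h.ma
  have sb := kt.sq b h.mb
  have sc := kt.sq c h.mc
  have hc' : x * (a * b * c) = a * b * c * x := by rw [← h.eq]; exact hc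
  rcases R08.CohUniq.three_abs sx sa sb sc h.cbc hc' (cube hx h.ma) (cube hx h.mb) (cube hx h.mc) with h1 | h1 | h1
  · exact h1
  · -- `x` commutes with `b`, so with `a c`
    have h2 : x * (a * c) = a * c * x := by
      have e : a * c = b * (a * b * c) := by
        calc a * c = (b * b) * a * c := by rw [sb, one_mul]
          _ = b * (b * a) * c := by group
          _ = b * (a * b * c) := by rw [← h.cab]; group
      rw [e]
      calc x * (b * (a * b * c)) = (x * b) * (a * b * c) := by group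
        _ = b * (x * (a * b * c)) := by rw [h1]; group
        _ = b * (a * b * c) * x := by rw [hc']; group
    exact (R08.CohUniq.two_abs sx sa sc h.ac h2 (cube hx h.ma) (cube hx h.mc)).1
  · have h2 : x * (a * b) = a * b * x := by
      have e : a * b = (a * b * c) * c := by
        calc a * b = a * b * (c * c) := by rw [sc, mul_one]
          _ = a * b * c * c := by group
      rw [e]
      calc x * (a * b * c * c) = (x * (a * b * c)) * c := by group
        _ = a * b * c * (x * c) := by rw [hc']; group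
        _ = a * b * c * c * x := by rw [h1]; group
    exact (R08.CohUniq.two_abs sx sa sb h.ab h2 (cube hx h.ma) (cube hx h.mb)).1

theorem Tri.conj {s a b c g : Spor.Fi22} (h : Tri s a b c) (hg : g * s = s * g) :
    Tri s (g * a * g⁻¹) (g * b * g⁻¹) (g * c * g⁻¹) := by
  have ne : ∀ {x y : Spor.Fi22}, x ≠ y → g * x * g⁻¹ ≠ g * y * g⁻¹ := fun hxy h1 =>
    hxy (mul_left_cancel (mul_right_cancel h1))
  have cm : ∀ {x y : Spor.Fi22}, x * y = y * x → (g * x * g⁻¹) * (g * y * g⁻¹) = (g * y * g⁻¹) * (g * x * g⁻¹) :=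
    fun hxy => Twin.comm_conj hxy
  refine ⟨kt.conj g a h.ma, kt.conj g b h.mb, kt.conj g c h.mc, ne h.ab, ne h.ac, ne h.bc, cm h.cab, cm h.cac,
    cm h.cbc, ?_⟩
  have h1 : s = g * s * g⁻¹ := by rw [hg, mul_inv_cancel_right]
  calc s = g * s * g⁻¹ := h1
    _ = g * (a * b * c) * g⁻¹ := by rw [h.eq]
    _ = (g * a * g⁻¹) * (g * b * g⁻¹) * (g * c * g⁻¹) := by group

theorem Tri.rot {s a b c : Spor.Fi22} (h : Tri s a b c) : Tri s b a c :=
  ⟨h.mb, h.ma, h.mc, h.ab.symm, h.bc, h.ac, h.cab.symm, h.cbc, h.cac, by rw [h.eq, h.cab]⟩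

theorem Tri.self {s a b c : Spor.Fi22} (h : Tri s a b c) : a * s = s * a := by
  rw [h.eq]
  calc a * (a * b * c) = a * (a * b) * c := by group
    _ = a * (b * a) * c := by rw [h.cab]
    _ = a * b * (a * c) := by group
    _ = a * b * (c * a) := by rw [h.cac]
    _ = a * b * c * a := by group

theorem quasi_cent {s : Spor.Fi22} (hs : s ∈ T) : IsQuasisimple ↥(centralizer ({s} : Set Spor.Fi22)) ∧
    qi (centralizer ({s} : Set Spor.Fi22)) = 9196830720 := by
  obtain ⟨c, hc, hne, -, hcs, -⟩ := kt.nb s hs s hs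
  obtain ⟨R, Fa⟩ := KFacts.FiTT.facts_of_iso (MulEquiv.refl Spor.Fi22) (a := s) (b := c)
    ⟨s, hs, rfl⟩ ⟨c, hc, rfl⟩ hne.symm hcs.symm
  refine ⟨Fa.quasi, ?_⟩
  obtain ⟨F, i, j, hF, ⟨e⟩⟩ := Fa.quo
  show (center ↥(centralizer ({s} : Set Spor.Fi22))).index = _
  rw [Subgroup.index, Nat.card_congr e.toEquiv, TSp.Orders.card_PSU hF]

/-- **The inner involutory automorphisms.** -/
theorem inner {s : Spor.Fi22} (hss : s * s = 1) (hs1 : s ≠ 1) {J : Subgroup Spor.Fi22}
    (hJ : CompIn (fix (MulAut.conj s)) J) : J = centralizer ({s} : Set Spor.Fi22) ∧ qi J = 9196830720 := by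
  have hfin : Finite Spor.Fi22 := Base.fin
  have hα : MulAut.conj s * MulAut.conj s = 1 := by rw [← map_mul, hss, map_one]
  have hfix : ∀ x, x ∈ fix (MulAut.conj s) ↔ s * x = x * s := by
    intro x
    rw [mem_fix, MulAut.conj_apply, mul_inv_eq_iff_eq_mul]
  rcases kt.inv s hss with h | h | ⟨a, ha, b, hb, hne, hab, rfl⟩ |
    ⟨a, ha, b, hb, c, hc, nab, nac, nbc, cab, cac, cbc, e⟩
  · exact absurd h hs1
  · obtain ⟨hq, hn⟩ := quasi_cent h
    have hF : fix (MulAut.conj s) = centralizer ({s} : Set Spor.Fi22) := by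
      ext x
      rw [hfix, mem_centralizer_singleton_iff]
      exact eq_comm
    rw [hF] at hJ
    have h1 := hJ.eq_of_le hq le_rfl hJ.le
    refine ⟨h1, ?_⟩
    rw [h1]; exact hn
  · exfalso
    obtain ⟨-, j, hj, hjne⟩ := pair_moves hα ha hb hne hab (by rw [MulAut.conj_apply]; group) hJ
    exact hjne ((hfix j).1 (hJ.le hj))
  · exfalso
    have hT : Tri s a b c := ⟨ha, hb, hc, nab, nac, nbc, cab, cac, cbc, e⟩
    set P : Set Spor.Fi22 := {x | ∃ y z, Tri s x y z} with hP
    have hPc : ∀ x ∈ P, ∀ y ∈ P, x * y = y * x := by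
      rintro x ⟨x1, x2, hx⟩ y ⟨y1, y2, hy⟩
      exact hy.comm hx.ma hx.self
    have hPs : ∀ x ∈ P, x * x = 1 := by
      rintro x ⟨x1, x2, hx⟩
      exact kt.sq x hx.ma
    have hPa : ∀ x ∈ P, x ∈ fix (MulAut.conj s) := by
      rintro x ⟨x1, x2, hx⟩
      exact (hfix x).2 hx.self.symm
    have hPn : ∀ g ∈ fix (MulAut.conj s), ∀ x ∈ P, g * x * g⁻¹ ∈ P := by
      rintro g hg x ⟨x1, x2, hx⟩
      exact ⟨_, _, hx.conj ((hfix g).1 hg).symm⟩
    have hV2 := D8.Fi22.SylAut.isPGroup_closure hPs hPc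
    have hVn : ∀ g ∈ fix (MulAut.conj s), ∀ x ∈ closure P, g * x * g⁻¹ ∈ closure P := by
      intro g hg
      have h1 : closure P ≤ (closure P).comap (MulAut.conj g).toMonoidHom := by
        rw [closure_le]
        exact fun x hx => subset_closure (hPn g hg x hx)
      exact fun x hx => h1 hx
    set F := fix (MulAut.conj s) with hF
    have h3 := Cfsg.Agent.Lib.ComponentSolvable.commutator_component_solvable_eq_bot hJ.comp
      (R := (closure P).subgroupOf F)
      (by
        haveI : Fact (Nat.Prime 2) := ⟨Nat.prime_two⟩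
        haveI : Group.IsNilpotent ↥((closure P).subgroupOf F) :=
          (hV2.comap_of_injective _ F.subtype_injective).isNilpotent
        infer_instance)
      (by
        intro x _
        rw [mem_normalizer_iff]
        have h5 : ∀ x : F, ∀ y ∈ (closure P).subgroupOf F, x * y * x⁻¹ ∈ (closure P).subgroupOf F :=
          fun x y hy => hVn x x.2 y hy
        intro y
        refine ⟨h5 x y, fun h6 => ?_⟩
        have h7 := h5 x⁻¹ _ h6
        rwa [inv_inv, show x⁻¹ * (x * y * x⁻¹) * x = y by group] at h7)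
    rw [commutator_eq_bot_iff_le_centralizer] at h3
    have haP : a ∈ P := ⟨b, c, hT⟩
    have hbP : b ∈ P := ⟨a, c, hT.rot⟩
    obtain ⟨-, j, hj, hjne⟩ := pair_moves hα ha hb nab cab (by
      rw [MulAut.conj_apply, mul_inv_eq_iff_eq_mul]
      have e1 := hT.self
      have e2 := hT.rot.self
      calc s * (a * b) = (s * a) * b := by group
        _ = a * (s * b) := by rw [← e1]; group
        _ = a * b * s := by rw [← e2]; group) hJ
    apply hjne
    have hcj : ∀ x ∈ P, x * j = j * x := by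
      intro x hx
      have h4 := mem_centralizer_iff.1 (h3 (show (⟨j, hJ.le hj⟩ : F) ∈ J.subgroupOf F from hj))
        ⟨x, hPa x hx⟩ (subset_closure hx)
      exact congrArg Subtype.val h4
    calc a * b * j = a * (b * j) := by group
      _ = (a * j) * b := by rw [hcj b hbP]; group
      _ = j * (a * b) := by rw [hcj a haP]; group

end Cfsg.Agent.OddHalf.NI3.Ex.FiRow.Inner
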