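import Cfsg.Agent.OddHalf.NI3.Ex.FiRow.Outer
import Cfsg.Agent.OddHalf.NI3.Ex.FiRow.Inner
import Cfsg.Agent.OddHalf.NI3.Ex.Three
import Cfsg.Agent.OddHalf.NI3.Ex.Cut
import Cfsg.Agent.OddHalf.NI3.K.Congr

/-!
# (EX3): the row `Fi22` (helper286)
-/

set_option autoImplicit false
set_option linter.style.haveILetI false

namespace Cfsg.Agent.OddHalf.NI3.Ex.FiRow.Row

open Subgroup Cfsg Cfsg.Agent.OddHalf.NI Cfsg.Agent.OddHalf.NI.Ex Cfsg.Agent.OddHalf.NI3.Ex
open Cfsg.Agent.OddHalf.NI3.Ex.FiRow.Base Cfsg.Agent.OddHalf.NI3.Ex.FiRow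
open Cfsg.Agent.OddHalf.D3.EvDiag (qi)
open Cfsg.Agent.Co2Type.Setup (Sp6 card_sp6)

universe u

theorem qi_dvd (J : Subgroup Spor.Fi22) : qi J ∣ Nat.card ↥J := (center ↥J).index_dvd_card

theorem card_dvd (J : Subgroup Spor.Fi22) : Nat.card ↥J ∣ 64561751654400 := by
  rw [← kt.card]
  exact card_subgroup_dvd_card J

/-- the arithmetic -/
theorem arith {c m n k : ℕ} (hc : c = 25920 ∨ c = 6065280 ∨ c = 3265920 ∨ c = 4585351680) (h1 : 1451520 ∣ m)
    (h2 : m ∣ 2 * 1451520) (h3 : m ∣ c) (hk : k ≤ n * m) (hn : n ≤ 2101) (hc' : c ≤ k) : False := by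
  obtain ⟨a, rfl⟩ := h1
  have ha : a ∣ 2 := by
    have h4 : 1451520 * a ∣ 1451520 * 2 := by rwa [mul_comm 2] at h2
    exact Nat.dvd_of_mul_dvd_mul_left (by norm_num) h4
  have ha2 : a ≤ 2 := Nat.le_of_dvd (by norm_num) ha
  obtain ⟨b, hb⟩ := h3
  have h4 : n * (1451520 * a) ≤ 2101 * (1451520 * a) := Nat.mul_le_mul_right _ hn
  interval_cases a
  · omega
  · omega
  · omega

/-- **No automorphism of `Fi22` of order two has a component over the field with three elements.** -/
theorem no3 : No3 Spor.Fi22 := by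
  intro α hα J hJ h81 hRk
  by_contra hG
  have hfin : Finite Spor.Fi22 := Base.fin
  have h1 : α * α = 1 := by rw [← pow_two, ← hα, pow_orderOf_eq_one]
  have hne : α ≠ 1 := by
    rintro rfl
    rw [orderOf_one] at hα
    omega
  have hqd := qi_dvd J
  have hJd := card_dvd J
  have hc : qi J = 25920 ∨ qi J = 6065280 ∨ qi J = 3265920 ∨ qi J = 4585351680 := by
    rcases Three.cases hRk h81 hG with h | h | h | h | h
    · exact Or.inl h.2.1
    · exact Or.inr (Or.inl h.1)
    · exact Or.inr (Or.inr (Or.inl h.1))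
    · exact Or.inr (Or.inr (Or.inr h.1))
    · exfalso
      have h2 : 3 ^ 10 ∣ 64561751654400 := (Dvd.dvd.trans h hqd).trans hJd
      norm_num at h2
  have h2 : 2 ∣ Nat.card ↥J := by
    refine dvd_trans ?_ hqd
    rcases hc with h | h | h | h <;> rw [h] <;> norm_num
  by_cases hin : ∃ y, α = MulAut.conj y
  · obtain ⟨y, rfl⟩ := hin
    have hyy : y * y = 1 := by
      apply Semi.conj_inj
      rw [map_mul, h1, map_one]
    have hy1 : y ≠ 1 := by
      rintro rfl
      exact hne (map_one _)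
    have h3 := (Inner.inner hyy hy1 hJ).2
    rw [h3] at hc
    omega
  push Not at hin
  rcases Outer.outer h1 hin hJ h2 with h | ⟨t, ht, q, hq, B, -⟩
  · rw [h] at hc
    omega
  · have e1 := B.card_dvd hJ.le
    have e2 := SType.Bc.card_dvd' (J := J) hq hJ.le
    have e3 := B.card_dvd_qi hq hJ.le
    have e4 := SType.Bc.card_le Outer.tr ht.1 ht.2 hJ.le
    have e5 : {x | x ∈ Base.T ∧ α x = x}.ncard ≤ 2101 := ncard_fixed_le hne
    rw [card_sp6] at e1 e2
    exact arith hc e1 e2 e3 e4 e5 (Nat.le_of_dvd Nat.card_pos hqd)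

/-! ### Transport -/

section transport

open Cfsg.Agent.OddHalf.LieOddFam

universe v

variable {X : Type u} {Y : Type v} [Group X] [Group Y]

theorem fG2_congr' (e : X ≃* Y) {q : ℕ} (h : FG2 X q) : FG2 Y q := by
  obtain ⟨F, i, j, h1, ⟨f⟩⟩ := h
  exact ⟨F, i, j, h1, ⟨e.symm.trans f⟩⟩

theorem No3.congr (e : X ≃* Y) (h : No3 Y) : No3 X := by
  intro α hα J hJ h81 hRk
  have hfix : (fix α).map e.toMonoidHom = fix (MulAut.congr e α) := by
    ext y
    constructor
    · rintro ⟨x, hx, rfl⟩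
      show e (α (e.symm (e x))) = e x
      rw [e.symm_apply_apply, show α x = x from hx]
    · intro hy
      refine ⟨e.symm y, ?_, e.apply_symm_apply y⟩
      apply e.injective
      show e (α (e.symm y)) = e (e.symm y)
      rw [e.apply_symm_apply]
      exact hy
  have hJ' := NI3.K.Congr.compIn_equiv e hJ
  rw [hfix] at hJ'
  let f : ↥J ≃* ↥(J.map e.toMonoidHom) := J.equivMapOfInjective e.toMonoidHom e.injective
  have hf : (center ↥J).map f.toMonoidHom = center ↥(J.map e.toMonoidHom) := by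
    ext y
    obtain ⟨x, rfl⟩ := f.surjective y
    rw [Subgroup.mem_map_equiv, f.symm_apply_apply, mem_center_iff, mem_center_iff]
    constructor
    · intro h1 z
      obtain ⟨z, rfl⟩ := f.surjective z
      rw [← map_mul, ← map_mul, h1 z]
    · intro h1 z
      apply f.injective
      rw [map_mul, map_mul, h1 (f z)]
  let g : (↥J ⧸ center ↥J) ≃* (↥(J.map e.toMonoidHom) ⧸ center ↥(J.map e.toMonoidHom)) :=
    QuotientGroup.congr _ _ f hf
  have h2 : orderOf (MulAut.congr e α) = 2 := by rw [MulEquiv.orderOf_eq, hα]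
  have h3 := h (MulAut.congr e α) h2 _ hJ' (by rw [← Nat.card_congr g.toEquiv]; exact h81)
    (LieOddFam.rk_congr g hRk)
  exact fG2_congr' g.symm h3

end transport

/-- **The row `Fi22`.** -/
theorem no3_fi22 {X : Type u} [Group X] (h : Spor.IsoFi22 X) : No3 X := by
  obtain ⟨e⟩ := h
  exact No3.congr e no3

theorem fi22 : XRow3.{u} (fun X _ => Spor.IsoFi22 X) := fun _ _ _ _ _ h => no3_fi22 h

end Cfsg.Agent.OddHalf.NI3.Ex.FiRow.Row
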