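import Cfsg.Agent.OddHalf.D8.Fi22.KTrans
import Cfsg.Agent.KFacts.FiTT.AllPairs
import Cfsg.Agent.R08.NoFpf
import Cfsg.Agent.OddHalf.NI.Ex.Balance

/-!
# (EX3), row `Fi22`: fixed transpositions of an involutory automorphism (helper286)

* `exists_fixed`: an automorphism with `α² = 1` fixes a transposition.
* `ncard_fixed_le`: a nontrivial automorphism fixes at most 2101 of the 3510 transpositions.
* `pair_moves`: the product of two commuting transpositions, fixed by `α`, does not centralise a component of `fix α`.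
-/

set_option autoImplicit false
set_option linter.style.haveILetI false

namespace Cfsg.Agent.OddHalf.NI3.Ex.FiRow.Base

open Subgroup Cfsg Cfsg.Agent.OddHalf.NI Cfsg.Agent.OddHalf.NI.Ex Cfsg.Agent.R01
open Cfsg.Agent.R01.Component (Nb mem_Nb labels_of_loc ncard_Nb)

/-- the class of transpositions -/
abbrev T : Set Spor.Fi22 := Fi22Facts.T

theorem kt : D8.Fi22.KTrans Spor.Fi22 T := D8.Fi22.kTrans0

instance fin : Finite Spor.Fi22 := Fi22Facts.finite

theorem aa {α : MulAut Spor.Fi22} (hα : α * α = 1) (x : Spor.Fi22) : α (α x) = x := by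
  rw [← MulAut.mul_apply, hα, MulAut.one_apply]

theorem mem_fixT {α : MulAut Spor.Fi22} {t : Spor.Fi22} (ht : t ∈ T) : α t ∈ T := kt.aut α t ht

/-- **An involutory automorphism fixes a transposition.** -/
theorem exists_fixed {α : MulAut Spor.Fi22} (hα : α * α = 1) : ∃ t ∈ T, α t = t := by
  by_contra hcon
  push Not at hcon
  refine Cfsg.Agent.R08.NoFpf.fi22_no_fpf α (fun t ht => mem_fixT ht) (aa hα) hcon ?_
  intro t ht
  rcases kt.three t ht (α t) (mem_fixT ht) with h | h
  · exact h.symm
  · exfalso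
    have h1 : t * α t * t ∈ T := by
      have h2 := kt.conj t (α t) (mem_fixT ht)
      rwa [inv_eq_of_mul_eq_one_left (kt.sq t ht)] at h2
    apply hcon _ h1
    rw [map_mul, map_mul, aa hα, ← h]

/-- the fixed transpositions -/
def TA (α : MulAut Spor.Fi22) : Set Spor.Fi22 := {t | t ∈ T ∧ α t = t}

/-- **The number of fixed transpositions.** -/
theorem ncard_fixed_le {α : MulAut Spor.Fi22} (hα : α ≠ 1) : (TA α).ncard ≤ 2101 := by
  classical
  obtain ⟨u, hu, hau⟩ : ∃ u ∈ T, α u ≠ u := by
    by_contra hcon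
    push Not at hcon
    apply hα
    have h1 : (⊤ : Subgroup Spor.Fi22) ≤ fix α := by
      rw [← kt.gen, closure_le]
      exact fun x hx => hcon x hx
    ext x
    exact h1 (mem_top x)
  have hT : T.ncard = 3510 := Fi22Facts.ncard_T
  have hN : (Nb T u).ncard = 693 := ncard_Nb Fischer.Unit22.hF (labels_of_loc Fi22Facts.loc) hu
  have huu := kt.sq u hu
  -- the fixed ones not commuting with `u`
  set B : Set Spor.Fi22 := {t | t ∈ TA α ∧ ¬ Commute t u} with hB
  have h1 : TA α ⊆ Nb T u ∪ B := by
    intro t ht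
    by_cases hc : Commute t u
    · left
      exact ⟨ht.1, fun e => hau (e ▸ ht.2), hc⟩
    · exact Or.inr ⟨ht, hc⟩
  have h2 : B.ncard ≤ (T \ TA α).ncard := by
    refine Set.ncard_le_ncard_of_injOn (fun v => v * u * v) ?_ ?_ (Set.toFinite _)
    · rintro v ⟨⟨hv, hav⟩, hc⟩
      refine ⟨?_, fun h => ?_⟩
      · have h3 := kt.conj v u hu
        rwa [inv_eq_of_mul_eq_one_left (kt.sq v hv)] at h3
      · apply hau
        have h4 : α (v * u * v) = v * u * v := h.2
        rw [map_mul, map_mul, hav] at h4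
        exact mul_left_cancel (mul_right_cancel h4)
    · rintro v ⟨⟨hv, hav⟩, hc⟩ w ⟨⟨hw, haw⟩, hc'⟩ h
      have h3 : v * u * v = u * v * u := (kt.three v hv u hu).resolve_left hc
      have h4 : w * u * w = u * w * u := (kt.three w hw u hu).resolve_left hc'
      have h5 : u * v * u = u * w * u := by rw [← h3, ← h4]; exact h
      exact mul_left_cancel (mul_right_cancel h5)
  have h3 : (T \ TA α).ncard = T.ncard - (TA α).ncard :=
    Set.ncard_sdiff (fun t ht => ht.1) (Set.toFinite _)
  have h4 : (TA α).ncard ≤ (Nb T u ∪ B).ncard := Set.ncard_le_ncard h1 (Set.toFinite _)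
  have h5 := Set.ncard_union_le (Nb T u) B
  have h6 : (TA α).ncard ≤ T.ncard := Set.ncard_le_ncard (fun t ht => ht.1) (Set.toFinite _)
  omega

/-- **Products of two commuting transpositions do not centralise the components.** -/
theorem pair_moves {α : MulAut Spor.Fi22} (hα : α * α = 1) {a b : Spor.Fi22} (ha : a ∈ T) (hb : b ∈ T)
    (hne : a ≠ b) (hc : a * b = b * a) (hz : α (a * b) = a * b) {J : Subgroup Spor.Fi22}
    (hJ : CompIn (fix α) J) : (∀ j ∈ J, a * b * j * (a * b)⁻¹ ∈ J) ∧ ∃ j ∈ J, a * b * j ≠ j * (a * b) := by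
  obtain ⟨R, F⟩ := KFacts.FiTT.facts_of_iso (MulEquiv.refl Spor.Fi22) (a := a) (b := b)
    ⟨a, ha, rfl⟩ ⟨b, hb, rfl⟩ hne hc
  have haa := kt.sq a ha
  have hbb := kt.sq b hb
  refine Balance.balance hα hz ?_ (Q := R) F.R_two ?_ ?_ ?_ hJ
  · calc a * b * (a * b) = a * (b * a) * b := by group
      _ = a * (a * b) * b := by rw [hc]
      _ = (a * a) * (b * b) := by group
      _ = 1 := by rw [haa, hbb, one_mul]
  · intro q hq
    have h1 := mem_centralizer_iff.1 (F.R_le hq)
    have h2 := h1 a (Or.inl rfl)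
    have h3 := h1 b (Or.inr rfl)
    calc q * (a * b) = (q * a) * b := by group
      _ = a * q * b := by rw [h2]
      _ = a * (q * b) := by group
      _ = a * b * q := by rw [← h3]; group
  · intro g hg q hq
    exact F.R_normal g hg q hq
  · intro g hg h
    have h1 := F.R_center g h
    rcases h1 with rfl | rfl | rfl | rfl
    · exact R.one_mem
    · exact F.d_mem
    · exact F.d'_mem
    · exact R.mul_mem F.d_mem F.d'_mem

end Cfsg.Agent.OddHalf.NI3.Ex.FiRow.Base
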