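import Cfsg.Agent.U62.Semi2
import Cfsg.Agent.Co2Type.Setup
import Cfsg.Agent.ClassicalGeometry.PSUAutBasic

/-!
# (EX3), row `Fi22`: the fixed points of a semilinear involution with a fixed hyperbolic basis (helper286)

`φ` semilinear on `F^6`, `|F| = 4`, fixing a hyperbolic basis `g`, `k`: the elements of `SU₆(2)` commuting with `φ`
form a subgroup isomorphic to `Sp₆(2)`, and so do their images in `PSU₆(2)`.
-/

set_option autoImplicit false
set_option linter.unusedSectionVars false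

namespace Cfsg.Agent.OddHalf.NI3.Ex.FiRow.FixSp

open Cfsg Cfsg.Agent.LieClassical.HermBasic Cfsg.Agent.ClassicalGeometry.UnitTransv
open Cfsg.Agent.SporadicStructure.UnitTwo
open Cfsg.Agent.R01.PSUSix
open Cfsg.Agent.R01.Frames (Hyp)
open Cfsg.Agent.R01.ComLabel (Iso)
open Cfsg.Agent.ClassicalGeometry.UnitAutBasic (tau pr pr_surjective)
open Cfsg.Agent.U62.Semi
open Cfsg.Agent.Co2Type.Setup
open scoped Matrix
open Matrix

variable {F : Type*} [Field F] [Fintype F]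

/-- the basis -/
def bv (g k : Fin 3 → (Fin 6 → F)) : Fin 3 ⊕ Fin 3 → (Fin 6 → F) := Sum.elim g k

/-- the dual basis -/
def dv (g k : Fin 3 → (Fin 6 → F)) : Fin 3 ⊕ Fin 3 → (Fin 6 → F) := Sum.elim k g

/-- the matrix of the basis -/
def Bm (g k : Fin 3 → (Fin 6 → F)) : Matrix (Fin 6) (Fin 3 ⊕ Fin 3) F := Matrix.of fun r l => bv g k l r

/-- the matrix of the coordinates -/
def Cm (g k : Fin 3 → (Fin 6 → F)) : Matrix (Fin 3 ⊕ Fin 3) (Fin 6) F := Matrix.of fun l r => dv g k l r ^ 2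

variable {g k : Fin 3 → (Fin 6 → F)}

theorem Cm_apply (x : Fin 6 → F) (l : Fin 3 ⊕ Fin 3) : (Cm g k *ᵥ x) l = hermForm 6 F 2 x (dv g k l) := by
  rw [herm_def, Matrix.mulVec, dotProduct]
  exact Finset.sum_congr rfl fun i _ => mul_comm _ _

theorem Bm_apply (c : Fin 3 ⊕ Fin 3 → F) : Bm g k *ᵥ c = ∑ l, c l • bv g k l := by
  funext r
  rw [Matrix.mulVec, dotProduct, Finset.sum_apply]
  exact Finset.sum_congr rfl fun i _ => mul_comm _ _

theorem Bm_single (l : Fin 3 ⊕ Fin 3) : Bm g k *ᵥ Pi.single l 1 = bv g k l := by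
  funext r
  rw [Matrix.mulVec_single_one]
  rfl

section hyp

variable (hF : Fintype.card F = 2 ^ 2) (hb : Hyp g k)
include hF hb

theorem BC_mulVec (x : Fin 6 → F) : Bm g k *ᵥ (Cm g k *ᵥ x) = x := by
  rw [Bm_apply, Fintype.sum_sum_type]
  simp only [Cm_apply]
  conv_rhs => rw [hyp_expand hF hb x, Finset.sum_add_distrib]
  rfl

theorem BC : Bm g k * Cm g k = 1 := by
  apply Matrix.toLin'.injective
  apply LinearMap.ext
  intro v
  rw [Matrix.toLin'_apply, Matrix.toLin'_apply, ← Matrix.mulVec_mulVec, BC_mulVec hF hb, Matrix.one_mulVec]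

theorem CB : Cm g k * Bm g k = 1 := by
  apply Matrix.toLin'.injective
  apply LinearMap.pi_ext'
  intro l
  apply LinearMap.ext_ring
  rw [LinearMap.comp_apply, LinearMap.comp_apply, Matrix.toLin'_apply, Matrix.toLin'_apply,
    ← Matrix.mulVec_mulVec, Matrix.one_mulVec]
  show Cm g k *ᵥ (Bm g k *ᵥ Pi.single l 1) = Pi.single l 1
  rw [Bm_single]
  funext l'
  rw [Cm_apply]
  rcases l with i | i <;> rcases l' with j | j
  · show hermForm 6 F 2 (g i) (k j) = _
    rw [hb.gk]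
    by_cases h : i = j
    · subst h; simp
    · rw [if_neg h, Pi.single_eq_of_ne]
      intro h'; exact h (Sum.inl.inj h').symm
  · show hermForm 6 F 2 (g i) (g j) = _
    rw [hb.gg, Pi.single_eq_of_ne]
    exact Sum.inr_ne_inl
  · show hermForm 6 F 2 (k i) (k j) = _
    rw [hb.kk, Pi.single_eq_of_ne]
    exact Sum.inl_ne_inr
  · show hermForm 6 F 2 (k i) (g j) = _
    rw [hb.kg hF]
    by_cases h : i = j
    · subst h; simp
    · rw [if_neg h, Pi.single_eq_of_ne]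
      intro h'; exact h (Sum.inr.inj h').symm

theorem CB_mulVec (c : Fin 3 ⊕ Fin 3 → F) : Cm g k *ᵥ (Bm g k *ᵥ c) = c := by
  rw [Matrix.mulVec_mulVec, CB hF hb, Matrix.one_mulVec]

omit [Fintype F] hF hb in
theorem J_mulVec (d : Fin 3 ⊕ Fin 3 → F) :
    J (Fin 3) F *ᵥ d = Sum.elim (fun i => - d (Sum.inr i)) (fun i => d (Sum.inl i)) := by
  funext l
  rcases l with i | i
  · simp [J, Matrix.mulVec, dotProduct, Fintype.sum_sum_type, Matrix.fromBlocks, Matrix.one_apply]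
  · simp [J, Matrix.mulVec, dotProduct, Fintype.sum_sum_type, Matrix.fromBlocks, Matrix.one_apply]

/-- the form in coordinates -/
theorem herm_coord (x y : Fin 6 → F) : hermForm 6 F 2 x y =
    (Cm g k *ᵥ x) ⬝ᵥ (J (Fin 3) F *ᵥ fun l => (Cm g k *ᵥ y) l ^ 2) := by
  have hx := congrArg (fun z => hermForm 6 F 2 z y) (hyp_expand hF hb x)
  simp only [Fin.sum_univ_three, herm_add_left, herm_smul_left] at hx
  rw [J_mulVec, dotProduct, Fintype.sum_sum_type]
  simp only [Sum.elim_inl, Sum.elim_inr, Cm_apply, Fin.sum_univ_three]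
  have e1 : ∀ i, dv g k (Sum.inl i) = k i := fun i => rfl
  have e2 : ∀ i, dv g k (Sum.inr i) = g i := fun i => rfl
  simp only [e1, e2]
  rw [hx, herm_swap hF y (g 0), herm_swap hF y (g 1), herm_swap hF y (g 2), herm_swap hF y (k 0),
    herm_swap hF y (k 1), herm_swap hF y (k 2)]
  linear_combination (hermForm 6 F 2 x (k 0) * hermForm 6 F 2 y (g 0) ^ 2 +
    hermForm 6 F 2 x (k 1) * hermForm 6 F 2 y (g 1) ^ 2 +
    hermForm 6 F 2 x (k 2) * hermForm 6 F 2 y (g 2) ^ 2) * two_eq_zero hF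

end hyp

/-! ### The embedding -/

section embed

variable (hF : Fintype.card F = 2 ^ 2) (hb : Hyp g k)

/-- characteristic two -/
theorem charP (hF : Fintype.card F = 2 ^ 2) : CharP F 2 := by
  have : Fact (Nat.Prime 2) := ⟨Nat.prime_two⟩
  exact charP_of_card_eq_prime_pow hF

/-- the embedding of the prime field -/
noncomputable def ι (hF : Fintype.card F = 2 ^ 2) : ZMod 2 →+* F :=
  haveI := charP hF
  ZMod.castHom (dvd_refl 2) F

/-- squaring -/
noncomputable def fr (hF : Fintype.card F = 2 ^ 2) : F →+* F :=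
  haveI := charP hF
  haveI : ExpChar F 2 := ExpChar.prime Nat.prime_two
  frobenius F 2

theorem fr_apply (x : F) : fr hF x = x ^ 2 := by
  haveI := charP hF
  haveI : ExpChar F 2 := ExpChar.prime Nat.prime_two
  exact frobenius_def 2 x

theorem fr_ι (x : ZMod 2) : fr hF (ι hF x) = ι hF x :=
  RingHom.congr_fun (Subsingleton.elim ((fr hF).comp (ι hF)) (ι hF)) x

theorem sq_mulVec (M : Matrix (Fin 3 ⊕ Fin 3) (Fin 3 ⊕ Fin 3) (ZMod 2)) (c : Fin 3 ⊕ Fin 3 → F) :
    (fun l => ((M.map (ι hF)) *ᵥ c) l ^ 2) = (M.map (ι hF)) *ᵥ fun l => c l ^ 2 := by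
  funext l
  have h1 : ((M.map (ι hF)) *ᵥ c) l ^ 2 = fr hF (((M.map (ι hF)) *ᵥ c) l) := (fr_apply hF _).symm
  rw [h1, Matrix.mulVec, dotProduct, map_sum, Matrix.mulVec, dotProduct]
  refine Finset.sum_congr rfl fun i _ => ?_
  rw [map_mul, Matrix.map_apply, fr_ι, fr_apply]

theorem det_eq_one {M : Matrix (Fin 3 ⊕ Fin 3) (Fin 3 ⊕ Fin 3) (ZMod 2)}
    (h : M ∈ symplecticGroup (Fin 3) (ZMod 2)) : M.det = 1 := by
  have h1 := SymplecticGroup.symplectic_det h
  have h2 : ∀ x : ZMod 2, x ≠ 0 → x = 1 := by decide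
  exact h2 _ h1.ne_zero

theorem dot_inv {M : Matrix (Fin 3 ⊕ Fin 3) (Fin 3 ⊕ Fin 3) (ZMod 2)}
    (h : M ∈ symplecticGroup (Fin 3) (ZMod 2)) (c d : Fin 3 ⊕ Fin 3 → F) :
    ((M.map (ι hF)) *ᵥ c) ⬝ᵥ (J (Fin 3) F *ᵥ ((M.map (ι hF)) *ᵥ d)) = c ⬝ᵥ (J (Fin 3) F *ᵥ d) := by
  have h1 : Mᵀ * J (Fin 3) (ZMod 2) * M = J (Fin 3) (ZMod 2) := SymplecticGroup.mem_iff'.1 h
  have h2 : (M.map (ι hF))ᵀ * J (Fin 3) F * M.map (ι hF) = J (Fin 3) F := by
    have h3 := congrArg (fun X => X.map (ι hF)) h1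
    simp only [Matrix.map_mul, map_J, Matrix.transpose_map] at h3
    exact h3
  rw [← Matrix.vecMul_transpose, ← Matrix.dotProduct_mulVec, Matrix.mulVec_mulVec, Matrix.mulVec_mulVec, h2]

include hb in
/-- The embedding. -/
noncomputable def Θ : Sp6 →* SU 6 F 2 where
  toFun m := mk (Bm g k * (m : Matrix (Fin 3 ⊕ Fin 3) (Fin 3 ⊕ Fin 3) (ZMod 2)).map (ι hF) * Cm g k)
    (by
      rw [Matrix.det_conj_of_mul_eq_one (BC hF hb) (CB hF hb), ← RingHom.mapMatrix_apply, ← RingHom.map_det,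
        det_eq_one m.2, map_one])
    (by
      intro x y
      rw [herm_coord hF hb, herm_coord hF hb x y, ← Matrix.mulVec_mulVec, ← Matrix.mulVec_mulVec,
        CB_mulVec hF hb, ← Matrix.mulVec_mulVec, ← Matrix.mulVec_mulVec, CB_mulVec hF hb, sq_mulVec,
        dot_inv hF m.2])
  map_one' := by
    apply ext_act
    intro x
    rw [act_mk, act_one]
    show (Bm g k * (1 : Matrix (Fin 3 ⊕ Fin 3) (Fin 3 ⊕ Fin 3) (ZMod 2)).map (ι hF) * Cm g k) *ᵥ x = x
    rw [Matrix.map_one _ (map_zero _) (map_one _), Matrix.mul_one, BC hF hb, Matrix.one_mulVec]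
  map_mul' m m' := by
    apply ext_act
    intro x
    rw [act_mul, act_mk, act_mk, act_mk]
    show (Bm g k * ((m : Matrix (Fin 3 ⊕ Fin 3) (Fin 3 ⊕ Fin 3) (ZMod 2)) * m').map (ι hF) * Cm g k) *ᵥ x = _
    rw [Matrix.map_mul]
    simp only [← Matrix.mulVec_mulVec]
    rw [CB_mulVec hF hb]

theorem act_Θ (m : Sp6) (x : Fin 6 → F) : act (Θ hF hb m) x =
    Bm g k *ᵥ ((m : Matrix (Fin 3 ⊕ Fin 3) (Fin 3 ⊕ Fin 3) (ZMod 2)).map (ι hF) *ᵥ (Cm g k *ᵥ x)) := by
  rw [Matrix.mulVec_mulVec, Matrix.mulVec_mulVec]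
  rfl

theorem Θ_injective : Function.Injective (Θ hF hb) := by
  intro m m' h
  apply Subtype.ext
  ext i j
  have h1 := congrArg (fun s => act s (bv g k j)) h
  simp only [act_Θ] at h1
  have h2 := congrArg (fun x => Cm g k *ᵥ x) h1
  simp only [CB_mulVec hF hb] at h2
  rw [← Bm_single, CB_mulVec hF hb, Matrix.mulVec_single_one, Matrix.mulVec_single_one] at h2
  exact (ι hF).injective (congrFun h2 i)

end embed

/-! ### The range -/

section range

variable (hF : Fintype.card F = 2 ^ 2) (hb : Hyp g k) {φ : (Fin 6 → F) → (Fin 6 → F)} (h : Sem 2 φ)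
  (hg : ∀ i, φ (g i) = g i) (hk : ∀ i, φ (k i) = k i)
include h hg hk

theorem fix_dv (l : Fin 3 ⊕ Fin 3) : φ (dv g k l) = dv g k l := by
  rcases l with i | i
  exacts [hk i, hg i]

theorem fix_bv (l : Fin 3 ⊕ Fin 3) : φ (bv g k l) = bv g k l := by
  rcases l with i | i
  exacts [hg i, hk i]

theorem coord_φ (x : Fin 6 → F) : Cm g k *ᵥ (φ x) = fun l => (Cm g k *ᵥ x) l ^ 2 := by
  funext l
  rw [Cm_apply, Cm_apply, ← h.herm, fix_dv h hg hk]

theorem Θ_comm (m : Sp6) (x : Fin 6 → F) : φ (act (Θ hF hb m) x) = act (Θ hF hb m) (φ x) := by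
  have h1 : Cm g k *ᵥ φ (act (Θ hF hb m) x) = Cm g k *ᵥ (act (Θ hF hb m) (φ x)) := by
    rw [coord_φ h hg hk, act_Θ, act_Θ, CB_mulVec hF hb, CB_mulVec hF hb, sq_mulVec, coord_φ h hg hk]
  rw [← BC_mulVec hF hb (φ (act (Θ hF hb m) x)), h1, BC_mulVec hF hb]

theorem exists_Θ {s : SU 6 F 2} (hs : ∀ x, φ (act s x) = act s (φ x)) : ∃ m, Θ hF hb m = s := by
  have h0 : ∀ l l', (Cm g k *ᵥ act s (bv g k l')) l ^ 2 = (Cm g k *ᵥ act s (bv g k l')) l := by
    intro l l'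
    have h1 := congrFun (coord_φ h hg hk (act s (bv g k l'))) l
    rw [← h1, hs, fix_bv h hg hk]
  have h01 : ∀ l l', ∃ c : ZMod 2, ι hF c = (Cm g k *ᵥ act s (bv g k l')) l := by
    intro l l'
    rcases zero_or_one_of_fixed hF (h0 l l') with h1 | h1
    · exact ⟨0, by rw [map_zero, h1]⟩
    · exact ⟨1, by rw [map_one, h1]⟩
  choose c hc using h01
  let M : Matrix (Fin 3 ⊕ Fin 3) (Fin 3 ⊕ Fin 3) (ZMod 2) := Matrix.of fun l l' => c l l'
  have hM : ∀ l', M.map (ι hF) *ᵥ Pi.single l' 1 = Cm g k *ᵥ act s (bv g k l') := by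
    intro l'
    rw [Matrix.mulVec_single_one]
    funext l
    exact hc l l'
  have hMx : ∀ x : Fin 3 ⊕ Fin 3 → F, M.map (ι hF) *ᵥ x = Cm g k *ᵥ act s (Bm g k *ᵥ x) := by
    intro x
    have h1 : (Matrix.toLin' (M.map (ι hF))) = (Matrix.toLin' (Cm g k)).comp
        ((Matrix.toLin' ((s : Matrix.SpecialLinearGroup (Fin 6) F) : Matrix (Fin 6) (Fin 6) F)).comp
          (Matrix.toLin' (Bm g k))) := by
      apply LinearMap.pi_ext'
      intro l
      apply LinearMap.ext_ring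
      rw [LinearMap.comp_apply, LinearMap.comp_apply, Matrix.toLin'_apply, LinearMap.comp_apply,
        LinearMap.comp_apply, Matrix.toLin'_apply, Matrix.toLin'_apply, Matrix.toLin'_apply]
      have h2 := hM l
      rw [← Bm_single] at h2
      exact h2
    exact LinearMap.congr_fun h1 x
  have hsym : M ∈ symplecticGroup (Fin 3) (ZMod 2) := by
    rw [SymplecticGroup.mem_iff']
    have key : ∀ x y : Fin 3 ⊕ Fin 3 → F, (M.map (ι hF) *ᵥ x) ⬝ᵥ (J (Fin 3) F *ᵥ
        fun l => (M.map (ι hF) *ᵥ y) l ^ 2) = x ⬝ᵥ (J (Fin 3) F *ᵥ fun l => y l ^ 2) := by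
      intro x y
      have h1 := herm_act s (Bm g k *ᵥ x) (Bm g k *ᵥ y)
      rw [herm_coord hF hb, herm_coord hF hb (Bm g k *ᵥ x), ← hMx, ← hMx, CB_mulVec hF hb,
        CB_mulVec hF hb] at h1
      exact h1
    have h2 : (Mᵀ * J (Fin 3) (ZMod 2) * M).map (ι hF) = (J (Fin 3) (ZMod 2)).map (ι hF) := by
      rw [Matrix.map_mul, Matrix.map_mul, map_J, Matrix.transpose_map]
      ext l l'
      have h3 := key (Pi.single l 1) (Pi.single l' 1)
      rw [sq_mulVec] at h3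
      have h4 : (fun j => (Pi.single l' (1 : F) : Fin 3 ⊕ Fin 3 → F) j ^ 2) = Pi.single l' 1 := by
        funext j
        by_cases hj : j = l'
        · subst hj; simp
        · simp [Pi.single_eq_of_ne hj]
      rw [h4, ← Matrix.vecMul_transpose, ← Matrix.dotProduct_mulVec, Matrix.mulVec_mulVec,
        Matrix.mulVec_mulVec] at h3
      simpa using h3
    ext i j
    have h3 := congrFun (congrFun h2 i) j
    exact (ι hF).injective h3
  refine ⟨⟨M, hsym⟩, ?_⟩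
  apply ext_act
  intro x
  rw [act_Θ]
  show Bm g k *ᵥ (M.map (ι hF) *ᵥ (Cm g k *ᵥ x)) = act s x
  rw [hMx, BC_mulVec hF hb, BC_mulVec hF hb]

end range

end Cfsg.Agent.OddHalf.NI3.Ex.FiRow.FixSp
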