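import Cfsg.Agent.OddHalf.NI3.Ex.FiRow.Semi
import Cfsg.Agent.OddHalf.NI3.Ex.FiRow.FixSp

/-!
# (EX3), row `Fi22`: the centralizer of `t` in `fix α` in the split semilinear case (helper286)

`SType α t`: `α` fixes the transposition `t`, acts on the labels by a semilinear map fixing a hyperbolic basis.
`spSix`: then `C(t) ∩ fix α` is an extension of `⟨t⟩` by `Sp₆(2)`.
-/

set_option autoImplicit false
set_option linter.style.haveILetI false
set_option linter.unusedSectionVars false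

namespace Cfsg.Agent.OddHalf.NI3.Ex.FiRow.Cent

open Subgroup Cfsg Cfsg.Agent.OddHalf.NI Cfsg.Agent.OddHalf.NI.Ex
open Cfsg.Agent.OddHalf.NI3.Ex.FiRow.Base Cfsg.Agent.OddHalf.NI3.Ex.FiRow.Twin
open Cfsg.Agent.OddHalf.NI3.Ex.FiRow.Semi Cfsg.Agent.OddHalf.NI3.Ex.FiRow.FixSp
open Cfsg.Agent.LieClassical.HermBasic Cfsg.Agent.ClassicalGeometry.UnitTransv
open Cfsg.Agent.SporadicStructure.UnitTwo
open Cfsg.Agent.R01.Lifts Cfsg.Agent.R01.PSUSix Cfsg.Agent.R01.Label Cfsg.Agent.R01.InvForm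
open Cfsg.Agent.R01.Start (zel)
open Cfsg.Agent.R01.Loc
open Cfsg.Agent.R01
open Cfsg.Agent.R01.Frames (Hyp)
open Cfsg.Agent.R01.ComLabel (Iso)
open Cfsg.Agent.ClassicalGeometry.UnitAutBasic (tau pr pr_surjective)
open Cfsg.Agent.U62.Semi Cfsg.Agent.U62.Semi2
open Cfsg.Agent.Co2Type.Setup (Sp6 isSimpleGroup_sp6 card_sp6 center_sp6)
open scoped Matrix

variable {F : Type*} [Field F] [Fintype F] {hF : Fintype.card F = 2 ^ 2}

/-- The split semilinear type. -/
structure SDat (hF : Fintype.card F = 2 ^ 2) (α : MulAut Spor.Fi22) (t : Spor.Fi22)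
    (π : centralizer ({t} : Set Spor.Fi22) →* PSU 6 F 2)
    (lift : (Fin 6 → F) → centralizer ({t} : Set Spor.Fi22)) (φ : (Fin 6 → F) → (Fin 6 → F))
    (g k : Fin 3 → (Fin 6 → F)) : Prop extends Dat hF α t π lift 2 φ where
  hyp : Hyp g k
  fg : ∀ i, φ (g i) = g i
  fk : ∀ i, φ (k i) = k i

/-- a scalar matrix as an element of `SU` -/
def sc (hF : Fintype.card F = 2 ^ 2) (b : F) (hb : b ≠ 0) : SU 6 F 2 :=
  mk (b • (1 : Matrix (Fin 6) (Fin 6) F))
    (by
      rw [Matrix.det_smul, Matrix.det_one, mul_one, Fintype.card_fin]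
      have := pow_three hF hb
      calc b ^ 6 = (b ^ 3) ^ 2 := by ring
        _ = 1 := by rw [this, one_pow])
    (by
      intro x y
      rw [Matrix.smul_mulVec, Matrix.smul_mulVec, Matrix.one_mulVec, Matrix.one_mulVec, herm_smul_left,
        herm_smul_right]
      linear_combination hermForm 6 F 2 x y * (Cfsg.Agent.SporadicStructure.UnitTwo.pow_three hF hb))

theorem act_sc {b : F} (hb : b ≠ 0) (x : Fin 6 → F) : act (sc hF b hb) x = b • x := by
  rw [sc, act_mk, Matrix.smul_mulVec, Matrix.one_mulVec]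

/-- a scalar isometry is trivial in `PSU` -/
theorem pr_of_scalar {s : SU 6 F 2} {a : F} (h : ∀ x, act s x = a • x) : pr 6 F 2 s = 1 := by
  refine (QuotientGroup.eq_one_iff s).2 (mem_center_iff.2 fun s' => ?_)
  apply ext_act
  intro x
  rw [act_mul, act_mul, h, h, act_smul]

variable {α : MulAut Spor.Fi22} {t : Spor.Fi22} {π : centralizer ({t} : Set Spor.Fi22) →* PSU 6 F 2}
  {lift : (Fin 6 → F) → centralizer ({t} : Set Spor.Fi22)} {φ : (Fin 6 → F) → (Fin 6 → F)}
  {g k : Fin 3 → (Fin 6 → F)}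

/-- `α` respects the centralizer of `t` -/
theorem Dat.cent_mem {e : ℕ} (D : Dat hF α t π lift e φ) (c : centralizer ({t} : Set Spor.Fi22)) :
    α (c : Spor.Fi22) ∈ centralizer ({t} : Set Spor.Fi22) := by
  have hc := mem_centralizer_singleton_iff.1 c.2
  rw [mem_centralizer_singleton_iff]
  have h1 := congrArg α hc
  rwa [map_mul, map_mul, D.fixt] at h1

/-- an element commuting with all the labels -/
theorem Dat.central {e : ℕ} (D : Dat hF α t π lift e φ) {x : centralizer ({t} : Set Spor.Fi22)}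
    (h : ∀ v, Iso F v → x * lift v = lift v * x) : x = 1 ∨ x = zel t := by
  obtain ⟨s, hs⟩ := pr_surjective (π x)
  have h1 : ∀ v, Iso F v → Pt v (act s v) := by
    intro v hv
    have h2 := D.lab.conj x s v hs.symm hv.1 hv.2
    rw [h v hv, mul_inv_cancel_right] at h2
    have h3 : Iso F (act s v) := (sem_act s).iso hF (Or.inl rfl) hv
    exact (D.lab.lift_eq_iff hv.2 h3.2 hv.1 h3.1).1 h2
  obtain ⟨-, a, ha0, hs'⟩ := scal_all hF (Or.inl rfl) (sem_act s) h1
  have h2 := pr_of_scalar hs'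
  rw [hs] at h2
  exact (D.lab.ext.ker x).1 h2

theorem SDat.iso_lift (D : SDat hF α t π lift φ g k) {v : Fin 6 → F} (hv : Iso F v) : Iso F (φ v) :=
  D.sem.iso hF (Or.inr rfl) hv

/-- the images of the fixed elements are in the range of `Θ` -/
theorem SDat.mem_range (D : SDat hF α t π lift φ g k) {c : centralizer ({t} : Set Spor.Fi22)}
    (hc : α (c : Spor.Fi22) = c) : ∃ m, pr 6 F 2 (Θ hF D.hyp m) = π c := by
  obtain ⟨s, hs⟩ := pr_surjective (π c)
  have hcj : ∀ v, Iso F v → (c : Spor.Fi22) * lift v * (c : Spor.Fi22)⁻¹ = lift (act s v) := fun v hv =>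
    congrArg Subtype.val (D.lab.conj c s v hs.symm hv.1 hv.2)
  have his : ∀ v, Iso F v → Iso F (act s v) := fun v hv => (sem_act s).iso hF (Or.inl rfl) hv
  have h1 : ∀ v, Iso F v → (lift (φ (act s v)) : Spor.Fi22) = lift (act s (φ v)) := by
    intro v hv
    rw [← D.act _ (his v hv), ← hcj v hv, map_mul, map_mul, map_inv, hc, D.act v hv,
      hcj _ (D.iso_lift hv)]
  have hsem : Sem 1 (fun v => act s⁻¹ (φ (act s (φ v)))) := by
    have h2 := (sem_act s⁻¹).comp (D.sem.comp ((sem_act s).comp D.sem))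
    exact Sem.four hF h2
  have hpt : ∀ v, Iso F v → Pt v (act s⁻¹ (φ (act s (φ v)))) := by
    intro v hv
    have h2 := h1 _ (D.iso_lift hv)
    rw [D.inv] at h2
    obtain ⟨c, hc0, hc⟩ := (D.lab.lift_eq_iff (his v hv).2 (D.iso_lift (his _ (D.iso_lift hv))).2
      (his v hv).1 (D.iso_lift (his _ (D.iso_lift hv))).1).1 (Subtype.ext h2.symm)
    exact ⟨c, hc0, by rw [hc, act_smul, act_inv_act]⟩
  obtain ⟨-, a, ha0, ha⟩ := scal_all hF (Or.inl rfl) hsem hpt
  have h3 : ∀ v, φ (act s v) = a • act s (φ v) := by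
    intro v
    have h4 := congrArg (act s) (ha (φ v))
    rw [D.inv, act_act_inv, act_smul] at h4
    exact h4
  have ha2 : a ^ 2 ≠ 0 := pow_ne_zero 2 ha0
  have h5 : ∀ v, φ (act (sc hF (a ^ 2) ha2 * s) v) = act (sc hF (a ^ 2) ha2 * s) (φ v) := by
    intro v
    rw [act_mul, act_mul, act_sc, act_sc, D.sem.smul, h3, smul_smul]
    congr 1
    have := pow_three hF ha0
    linear_combination (a ^ 2) * this
  obtain ⟨m, hm⟩ := exists_Θ hF D.hyp D.sem D.fg D.fk h5
  refine ⟨m, ?_⟩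
  rw [hm, map_mul, pr_of_scalar (act_sc ha2), one_mul, hs]

/-- lifting of the range of `Θ` -/
theorem SDat.exists_c (D : SDat hF α t π lift φ g k) (m : Sp6) :
    ∃ c : centralizer ({t} : Set Spor.Fi22), π c = pr 6 F 2 (Θ hF D.hyp m) ∧
      (α (c : Spor.Fi22) = c ∨ α (c : Spor.Fi22) = c * t) := by
  obtain ⟨c, hc⟩ := D.lab.ext.surj (pr 6 F 2 (Θ hF D.hyp m))
  refine ⟨c, hc, ?_⟩
  set s := Θ hF D.hyp m with hs
  have hcj : ∀ v, Iso F v → (c : Spor.Fi22) * lift v * (c : Spor.Fi22)⁻¹ = lift (act s v) := fun v hv =>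
    congrArg Subtype.val (D.lab.conj c s v hc hv.1 hv.2)
  have his : ∀ v, Iso F v → Iso F (act s v) := fun v hv => (sem_act s).iso hF (Or.inl rfl) hv
  have h1 : ∀ v, Iso F v → α (c : Spor.Fi22) * lift (φ v) * (α (c : Spor.Fi22))⁻¹ =
      (c : Spor.Fi22) * lift (φ v) * (c : Spor.Fi22)⁻¹ := by
    intro v hv
    rw [hcj _ (D.iso_lift hv), ← Θ_comm hF D.hyp D.sem D.fg D.fk, ← hs, ← D.act _ (his v hv), ← hcj v hv,
      map_mul, map_mul, map_inv, D.act v hv]
  have h2 : c⁻¹ * ⟨α (c : Spor.Fi22), Dat.cent_mem D.toDat c⟩ = 1 ∨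
      c⁻¹ * ⟨α (c : Spor.Fi22), Dat.cent_mem D.toDat c⟩ = zel t := by
    apply Dat.central D.toDat
    intro v hv
    have h3 := h1 _ (D.iso_lift hv)
    rw [D.inv] at h3
    apply Subtype.ext
    show (c : Spor.Fi22)⁻¹ * α (c : Spor.Fi22) * lift v = lift v * ((c : Spor.Fi22)⁻¹ * α (c : Spor.Fi22))
    have h4 : α (c : Spor.Fi22) * lift v = (c : Spor.Fi22) * lift v * (c : Spor.Fi22)⁻¹ * α (c : Spor.Fi22) :=
      mul_inv_eq_iff_eq_mul.1 h3
    rw [mul_assoc, h4]
    group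
  rcases h2 with h2 | h2
  · left
    have h3 : (c : Spor.Fi22)⁻¹ * α (c : Spor.Fi22) = 1 := congrArg Subtype.val h2
    exact (inv_mul_eq_one.1 h3).symm
  · right
    have h3 : (c : Spor.Fi22)⁻¹ * α (c : Spor.Fi22) = t := congrArg Subtype.val h2
    exact inv_mul_eq_iff_eq_mul.1 h3

/-- `C(t) ∩ fix α` -/
def M (α : MulAut Spor.Fi22) (t : Spor.Fi22) : Subgroup Spor.Fi22 := fix α ⊓ centralizer ({t} : Set Spor.Fi22)

theorem Dat.t_comm {e : ℕ} (D : Dat hF α t π lift e φ) (c : centralizer ({t} : Set Spor.Fi22)) :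
    (c : Spor.Fi22) * t = t * c := mem_centralizer_singleton_iff.1 c.2

/-- **The centralizer of `t` in `fix α` is an extension of `⟨t⟩` by `Sp₆(2)`.** -/
theorem SDat.spSix (D : SDat hF α t π lift φ g k) : ∃ q : ↥(M α t) →* Sp6, Function.Surjective q ∧
    ∀ x : ↥(M α t), q x = 1 ↔ (x : Spor.Fi22) = 1 ∨ (x : Spor.Fi22) = t := by
  have hsimple := isSimpleGroup_sp6
  let Θ' : Sp6 →* PSU 6 F 2 := (pr 6 F 2).comp (Θ hF D.hyp)
  have hΘ' : ∀ m, Θ' m = pr 6 F 2 (Θ hF D.hyp m) := fun m => rfl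
  -- the restriction of `π`
  let j : ↥(M α t) →* centralizer ({t} : Set Spor.Fi22) := Subgroup.inclusion inf_le_right
  have hj : ∀ x, ((j x : centralizer ({t} : Set Spor.Fi22)) : Spor.Fi22) = x := fun x => rfl
  have hmem : ∀ x : ↥(M α t), π (j x) ∈ Θ'.range := by
    intro x
    obtain ⟨m, hm⟩ := D.mem_range (c := j x) x.2.1
    exact ⟨m, hm⟩
  -- a nontrivial element
  have hg0 := hyp_iso_g hF D.hyp 0
  have hx0 : (lift (g 0) : Spor.Fi22) ∈ M α t := ⟨(Semi.Dat.mem_A D.toDat hg0 (D.fg 0)).1.2, (lift (g 0)).2⟩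
  have hx1 : π (j ⟨_, hx0⟩) ≠ 1 := by
    have h1 : j ⟨_, hx0⟩ = lift (g 0) := Subtype.ext rfl
    rw [h1, D.lab.map _ hg0.1 hg0.2]
    exact tau_ne_one hF (by norm_num) hg0.2 hg0.1
  have hinj : Function.Injective Θ' := by
    rw [← MonoidHom.ker_eq_bot_iff]
    rcases hsimple.eq_bot_or_eq_top_of_normal Θ'.ker inferInstance with h | h
    · exact h
    · exfalso
      obtain ⟨m, hm⟩ := hmem ⟨_, hx0⟩
      apply hx1
      rw [← hm]
      have : m ∈ Θ'.ker := by rw [h]; exact mem_top m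
      exact this
  let E : Sp6 ≃* Θ'.range := MonoidHom.ofInjective hinj
  let q0 : ↥(M α t) →* Θ'.range := (π.comp j).codRestrict Θ'.range hmem
  let q : ↥(M α t) →* Sp6 := E.symm.toMonoidHom.comp q0
  have hq : ∀ x, Θ' (q x) = π (j x) := by
    intro x
    have h1 : E (q x) = q0 x := E.apply_symm_apply _
    have h2 := congrArg (Subtype.val) h1
    exact h2
  refine ⟨q, ?_, ?_⟩
  · -- surjectivity
    have hnorm : (q.range).Normal := by
      constructor
      rintro _ ⟨x, rfl⟩ m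
      obtain ⟨c, hc, hα⟩ := D.exists_c m
      have hcc : (c : Spor.Fi22) * x * (c : Spor.Fi22)⁻¹ ∈ M α t := by
        refine ⟨?_, (centralizer ({t} : Set Spor.Fi22)).mul_mem ((centralizer ({t} : Set Spor.Fi22)).mul_mem
          c.2 x.2.2) ((centralizer ({t} : Set Spor.Fi22)).inv_mem c.2)⟩
        show α ((c : Spor.Fi22) * x * (c : Spor.Fi22)⁻¹) = _
        rw [map_mul, map_mul, map_inv, show α (x : Spor.Fi22) = x from x.2.1]
        rcases hα with h | h
        · rw [h]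
        · rw [h]
          have h1 : (x : Spor.Fi22) * t = t * x := mem_centralizer_singleton_iff.1 x.2.2
          calc (c : Spor.Fi22) * t * x * (c * t)⁻¹ = c * (t * x) * t⁻¹ * (c : Spor.Fi22)⁻¹ := by group
            _ = c * (x * t) * t⁻¹ * (c : Spor.Fi22)⁻¹ := by rw [h1]
            _ = c * x * (c : Spor.Fi22)⁻¹ := by group
      refine ⟨⟨_, hcc⟩, ?_⟩
      apply hinj
      rw [hq, map_mul, map_mul, map_inv, hq]
      have h2 : j ⟨_, hcc⟩ = c * j x * c⁻¹ := Subtype.ext rfl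
      rw [h2, map_mul, map_mul, map_inv, hc, hΘ']
    rcases hnorm.eq_bot_or_eq_top with h | h
    · exfalso
      have h1 : q ⟨_, hx0⟩ ∈ q.range := ⟨_, rfl⟩
      rw [h, mem_bot] at h1
      apply hx1
      rw [← hq, h1, map_one]
    · exact MonoidHom.range_eq_top.1 h
  · intro x
    rw [← hinj.eq_iff, hq, map_one, D.lab.ext.ker]
    constructor
    · rintro (h | h)
      · left; exact congrArg Subtype.val h
      · right; exact congrArg Subtype.val h
    · rintro (h | h)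
      · left; exact Subtype.ext h
      · right; exact Subtype.ext h

end Cfsg.Agent.OddHalf.NI3.Ex.FiRow.Cent
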