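import Cfsg.Agent.OddHalf.D3.EvDiag
import Cfsg.Agent.OddHalf.NI.LemmaP
import Cfsg.Agent.S0215

/-!
# (EX3), row `Fi22`: 3-transpositions and components (helper286)

`t` a 3-transposition, `J` a quasisimple subgroup normalised but not centralised by `t`.
* `exists_comm`: some `t^j ≠ t`, `j ∈ J`, commutes with `t` (Glauberman's Z*-theorem).
* `unique_moved`: `t` does not normalise, without centralising it, another quasisimple subgroup commuting with `J`.
-/

set_option autoImplicit false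
set_option linter.style.haveILetI false

namespace Cfsg.Agent.OddHalf.NI3.Ex.FiRow.Kill

open Subgroup Cfsg Cfsg.Agent.OddHalf.NI Cfsg.Agent.OddHalf.D3
open scoped commutatorElement

variable {X : Type*} [Group X]

/-- An automorphism which is trivial modulo the centre of a perfect group is trivial. -/
theorem comm_of_center {J : Subgroup X} (hp : ⁅J, J⁆ = J) {t : X}
    (h : ∀ j ∈ J, ∃ z ∈ J, (∀ x ∈ J, z * x = x * z) ∧ t * j * t⁻¹ = z * j) : ∀ j ∈ J, t * j = j * t := by
  have h1 : ⁅J, J⁆ ≤ centralizer ({t} : Set X) := by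
    rw [commutator_le]
    intro a ha b hb
    obtain ⟨z, hz, hzc, ez⟩ := h a ha
    obtain ⟨w, hw, hwc, ew⟩ := h b hb
    rw [mem_centralizer_singleton_iff]
    have h2 : t * ⁅a, b⁆ * t⁻¹ = ⁅a, b⁆ := by
      rw [commutatorElement_def]
      have e1 : t * (a * b * a⁻¹ * b⁻¹) * t⁻¹ = (t * a * t⁻¹) * (t * b * t⁻¹) * (t * a * t⁻¹)⁻¹ *
        (t * b * t⁻¹)⁻¹ := by group
      rw [e1, ez, ew]
      have c1 : ∀ x ∈ J, (z * w) * x = x * (z * w) := by
        intro x hx
        calc z * w * x = z * (w * x) := by group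
          _ = (z * x) * w := by rw [hwc x hx]; group
          _ = x * (z * w) := by rw [hzc x hx]; group
      have e2 : z * a * (w * b) = z * w * (a * b) := by
        calc z * a * (w * b) = z * (a * w) * b := by group
          _ = z * (w * a) * b := by rw [hwc a ha]
          _ = z * w * (a * b) := by group
      have e3 : w * b * (z * a) = z * w * (b * a) := by
        calc w * b * (z * a) = w * (b * z) * a := by group
          _ = (w * z) * b * a := by rw [← hzc b hb]; group
          _ = z * w * (b * a) := by rw [← hzc w hw]; group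
      have hJab : a * b * (b * a)⁻¹ ∈ J := mul_mem (mul_mem ha hb) (inv_mem (mul_mem hb ha))
      calc z * a * (w * b) * (z * a)⁻¹ * (w * b)⁻¹ = (z * a * (w * b)) * (w * b * (z * a))⁻¹ := by group
        _ = z * w * (a * b) * (z * w * (b * a))⁻¹ := by rw [e2, e3]
        _ = z * w * (a * b * (b * a)⁻¹) * (z * w)⁻¹ := by group
        _ = a * b * (b * a)⁻¹ * (z * w) * (z * w)⁻¹ := by rw [c1 _ hJab]
        _ = a * b * a⁻¹ * b⁻¹ := by group
    exact (mul_inv_eq_iff_eq_mul.1 h2).symm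
  intro j hj
  rw [← hp] at hj
  exact (mem_centralizer_singleton_iff.1 (h1 hj)).symm

/-- 3-transpositions -/
structure Tr (T : Set X) : Prop where
  sq : ∀ x ∈ T, x * x = 1
  ne1 : ∀ x ∈ T, x ≠ 1
  conj : ∀ g : X, ∀ x ∈ T, g * x * g⁻¹ ∈ T
  three : ∀ x ∈ T, ∀ y ∈ T, x * y = y * x ∨ x * y * x = y * x * y

variable {T : Set X}

theorem Tr.inv (h : Tr T) {x : X} (hx : x ∈ T) : x⁻¹ = x := inv_eq_of_mul_eq_one_left (h.sq x hx)

/-- `J ⟨t⟩` -/
def JT (J : Subgroup X) (t : X) (tt : t * t = 1) (hn : ∀ j ∈ J, t * j * t⁻¹ ∈ J) : Subgroup X where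
  carrier := {x | x ∈ J ∨ x * t ∈ J}
  one_mem' := Or.inl J.one_mem
  mul_mem' := by
    have ti : t⁻¹ = t := inv_eq_of_mul_eq_one_left tt
    rintro x y (hx | hx) (hy | hy)
    · exact Or.inl (mul_mem hx hy)
    · right
      rw [mul_assoc]
      exact mul_mem hx hy
    · right
      have h1 := mul_mem hx (hn y hy)
      have e : x * t * (t * y * t⁻¹) = x * y * t := by
        calc x * t * (t * y * t⁻¹) = x * (t * t) * y * t⁻¹ := by group
          _ = x * y * t := by rw [tt, ti, mul_one]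
      rwa [e] at h1
    · left
      have h1 := mul_mem hx (hn _ hy)
      have e : x * t * (t * (y * t) * t⁻¹) = x * y := by
        calc x * t * (t * (y * t) * t⁻¹) = x * (t * t) * y := by group
          _ = x * y := by rw [tt, mul_one]
      rwa [e] at h1
  inv_mem' := by
    have ti : t⁻¹ = t := inv_eq_of_mul_eq_one_left tt
    rintro x (hx | hx)
    · exact Or.inl (inv_mem hx)
    · right
      have h1 := hn _ (inv_mem hx)
      have e : t * (x * t)⁻¹ * t⁻¹ = x⁻¹ * t := by
        calc t * (x * t)⁻¹ * t⁻¹ = x⁻¹ * t⁻¹ := by group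
          _ = x⁻¹ * t := by rw [ti]
      rwa [e] at h1

/-- **Some conjugate of `t` under `J` commutes with `t`.** -/
theorem exists_comm [Finite X] (hT : Tr T) {J : Subgroup X} (hq : IsQuasisimple J) (h2 : 2 ∣ Nat.card J) {t : X}
    (ht : t ∈ T) (hn : ∀ j ∈ J, t * j * t⁻¹ ∈ J) (hne : ∃ j ∈ J, t * j ≠ j * t) :
    ∃ j ∈ J, j * t * j⁻¹ ≠ t ∧ t * (j * t * j⁻¹) = j * t * j⁻¹ * t := by
  by_contra hcon
  push Not at hcon
  have tt := hT.sq t ht
  have ti := hT.inv ht
  let H := JT J t tt hn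
  have hJH : J ≤ H := fun x hx => Or.inl hx
  have htH : t ∈ H := Or.inr (by rw [tt]; exact J.one_mem)
  let u : H := ⟨t, htH⟩
  have hu : orderOf u = 2 := by
    rw [Subgroup.orderOf_mk, orderOf_eq_prime_iff, pow_two]
    exact ⟨tt, hT.ne1 t ht⟩
  have hp : IsPGroup 2 (zpowers u) := by
    rw [IsPGroup.iff_card]
    exact ⟨1, by rw [Nat.card_zpowers, hu, pow_one]⟩
  obtain ⟨P, hP⟩ := hp.exists_le_sylow
  have huP : u ∈ P := hP (mem_zpowers u)
  obtain ⟨N, hN, hNo, hNc⟩ := Cfsg.Agent.S0215.result P u hu huP (by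
    intro g hg
    -- the conjugate is a conjugate under `J`
    obtain ⟨j, hj, hje⟩ : ∃ j ∈ J, (g : X) * t * (g : X)⁻¹ = j * t * j⁻¹ := by
      rcases g.2 with h | h
      · exact ⟨g, h, rfl⟩
      · exact ⟨_, h, by group⟩
    apply Subtype.ext
    show (g : X) * t * (g : X)⁻¹ = t
    rcases hT.three t ht (j * t * j⁻¹) (hT.conj j t ht) with h | h
    · by_contra h1
      rw [hje] at h1
      exact hcon j hj h1 h
    · have h3 : (u * (g * u * g⁻¹)) ^ 3 = 1 := by
        apply Subtype.ext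
        show (t * ((g : X) * t * (g : X)⁻¹)) ^ 3 = 1
        rw [hje]
        set v := j * t * j⁻¹ with hv
        have hvv : v * v = 1 := hT.sq _ (hT.conj j t ht)
        calc (t * v) ^ 3 = (t * v * t) * (v * t * v) := by rw [pow_succ, pow_two]; group
          _ = (v * t * v) * (v * t * v) := by rw [h]
          _ = v * t * (v * v) * t * v := by group
          _ = v * (t * t) * v := by rw [hvv]; group
          _ = 1 := by rw [tt, mul_one, hvv]
      have h4 : u * (g * u * g⁻¹) ∈ P := mul_mem huP hg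
      obtain ⟨k, hk⟩ := P.2 ⟨_, h4⟩
      have h5 : (u * (g * u * g⁻¹)) ^ 2 ^ k = 1 := congrArg Subtype.val hk
      have h6 : orderOf (u * (g * u * g⁻¹)) ∣ 1 := by
        have h7 : Nat.Coprime 3 (2 ^ k) := Nat.Coprime.pow_right k (by norm_num)
        rw [← h7.gcd_eq_one]
        exact Nat.dvd_gcd (orderOf_dvd_of_pow_eq_one h3) (orderOf_dvd_of_pow_eq_one h5)
      have h7 : u * (g * u * g⁻¹) = 1 := orderOf_eq_one_iff.1 (Nat.dvd_one.1 h6)
      have h8 : t * ((g : X) * t * (g : X)⁻¹) = 1 := congrArg Subtype.val h7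
      rw [← inv_eq_of_mul_eq_one_right h8, ti])
  let NJ : Subgroup J := (N.map H.subtype).subgroupOf J
  have hmem : ∀ x : X, ∀ hx : x ∈ H, x ∈ N.map H.subtype ↔ (⟨x, hx⟩ : H) ∈ N := by
    intro x hx
    constructor
    · rintro ⟨y, hy, rfl⟩
      exact hy
    · intro h
      exact ⟨_, h, rfl⟩
  have hNJ : NJ.Normal := by
    constructor
    intro n hn' x
    have h3 : (n : X) ∈ N.map H.subtype := hn'
    rw [hmem _ (hJH n.2)] at h3
    show ((x : X) * n * (x : X)⁻¹) ∈ N.map H.subtype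
    rw [hmem _ (hJH (mul_mem (mul_mem x.2 n.2) (inv_mem x.2)))]
    exact hN.conj_mem _ h3 ⟨x, hJH x.2⟩
  rcases Cfsg.Agent.Lib.ComponentSolvable.quasisimple_normal_cases hq hNJ with h | h
  · have h3 : J ≤ N.map H.subtype := by
      intro x hx
      have : (⟨x, hx⟩ : J) ∈ NJ := by rw [h]; exact mem_top _
      exact this
    have h4 := card_dvd_of_le h3
    have h5 : Nat.card (N.map H.subtype) = Nat.card N :=
      Nat.card_congr (N.equivMapOfInjective _ H.subtype_injective).symm.toEquiv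
    rw [h5] at h4
    exact (Nat.not_even_iff_odd.2 hNo) (even_iff_two_dvd.2 (h2.trans h4))
  · obtain ⟨j, hj, hjne⟩ := hne
    apply hjne
    refine comm_of_center (Subgroup.isPerfect_iff.mp hq.1) ?_ j hj
    intro x hx
    have h3 : t * x * t⁻¹ * x⁻¹ ∈ J := mul_mem (hn x hx) (inv_mem hx)
    have h4 : (⟨_, h3⟩ : J) ∈ NJ := by
      show t * x * t⁻¹ * x⁻¹ ∈ N.map H.subtype
      rw [hmem _ (hJH h3)]
      exact hNc ⟨x, hJH hx⟩
    refine ⟨_, h3, fun y hy => ?_, by group⟩
    exact (congrArg Subtype.val (mem_center_iff.1 (h h4) ⟨y, hy⟩)).symm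

/-- **At most one component is moved.** -/
theorem unique_moved [Finite X] (hT : Tr T) {J K : Subgroup X} (hJ : IsQuasisimple J) (hK : IsQuasisimple K)
    (h2 : 2 ∣ Nat.card J) {t : X} (ht : t ∈ T) (hn : ∀ j ∈ J, t * j * t⁻¹ ∈ J) (hnK : ∀ j ∈ K, t * j * t⁻¹ ∈ K)
    (hne : ∃ j ∈ J, t * j ≠ j * t) (hneK : ∃ j ∈ K, t * j ≠ j * t) (hc : ∀ a ∈ J, ∀ b ∈ K, a * b = b * a) :
    False := by
  have tt := hT.sq t ht
  have ti := hT.inv ht
  obtain ⟨j, hj, hjne, hjc⟩ := exists_comm hT hJ h2 ht hn hne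
  set x := j * t * j⁻¹ with hx
  have hxT : x ∈ T := hT.conj j t ht
  have xx := hT.sq x hxT
  -- `ρ = t x ∈ J`
  have hρ : t * x ∈ J := by
    have h1 := mul_mem (hn j hj) (inv_mem hj)
    have e : t * j * t⁻¹ * j⁻¹ = t * x := by rw [hx, ti]; group
    rwa [e] at h1
  have hσ : ∀ k ∈ K, t * (k * t * k⁻¹) ∈ K := by
    intro k hk
    have h1 := mul_mem (hnK k hk) (inv_mem hk)
    have e : t * k * t⁻¹ * k⁻¹ = t * (k * t * k⁻¹) := by rw [ti]; group
    rwa [e] at h1
  have hρρ : t * x * (t * x) = 1 := by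
    calc t * x * (t * x) = t * (x * t) * x := by group
      _ = t * (t * x) * x := by rw [hjc]
      _ = (t * t) * (x * x) := by group
      _ = 1 := by rw [tt, xx, one_mul]
  -- all the conjugates of `t` under `K` commute with `t`
  have hcomm : ∀ k ∈ K, t * (k * t * k⁻¹) = k * t * k⁻¹ * t := by
    intro k hk
    by_contra hcon
    set y := k * t * k⁻¹ with hy
    have hyT : y ∈ T := hT.conj k t ht
    have yy := hT.sq y hyT
    have hb := (hT.three t ht y hyT).resolve_left hcon
    have hcρσ := hc _ hρ _ (hσ k hk)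
    have e0 : x * y = (t * x) * (t * y) := by
      calc x * y = x * (t * t) * y := by rw [tt]; group
        _ = (x * t) * (t * y) := by group
        _ = (t * x) * (t * y) := by rw [hjc]
    -- `(t y)^3 = 1`
    have h3 : t * y * (t * y) * (t * y) = 1 := by
      calc t * y * (t * y) * (t * y) = (t * y * t) * (y * t * y) := by group
        _ = (y * t * y) * (y * t * y) := by rw [hb]
        _ = y * t * (y * y) * t * y := by group
        _ = y * (t * t) * y := by rw [yy]; group
        _ = 1 := by rw [tt, mul_one, yy]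
    set ρ := t * x with hρd
    set σ := t * y with hσd
    have hcomm' : ρ * σ = σ * ρ := hcρσ
    rcases hT.three x hxT y hyT with h | h
    · -- `(x y)^2 = 1`
      have h4 : x * y * (x * y) = 1 := by
        calc x * y * (x * y) = x * (y * x) * y := by group
          _ = x * (x * y) * y := by rw [h]
          _ = (x * x) * (y * y) := by group
          _ = 1 := by rw [xx, yy, one_mul]
      rw [e0] at h4
      have h5 : σ * σ = 1 := by
        calc σ * σ = (ρ * ρ) * (σ * σ) := by rw [hρρ, one_mul]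
          _ = ρ * (ρ * σ) * σ := by group
          _ = ρ * (σ * ρ) * σ := by rw [hcomm']
          _ = ρ * σ * (ρ * σ) := by group
          _ = 1 := h4
      rw [h5, one_mul] at h3
      apply hcon
      have h6 : y = t := (eq_inv_of_mul_eq_one_right h3).trans ti
      rw [hσd, h6]
    · have h4 : x * y * (x * y) * (x * y) = 1 := by
        calc x * y * (x * y) * (x * y) = (x * y * x) * (y * x * y) := by group
          _ = (y * x * y) * (y * x * y) := by rw [h]
          _ = y * x * (y * y) * x * y := by group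
          _ = y * (x * x) * y := by rw [yy]; group
          _ = 1 := by rw [xx, mul_one, yy]
      rw [e0] at h4
      have h5 : ρ = 1 := by
        calc ρ = (ρ * ρ) * ρ * (σ * σ * σ) := by rw [hρρ, h3]; group
          _ = ρ * σ * (ρ * σ) * (ρ * σ) := by
            have c : Commute ρ σ := hcomm'
            have e1 : ρ * σ * (ρ * σ) * (ρ * σ) = (ρ * σ) ^ 3 := by rw [pow_succ, pow_two]
            rw [e1, c.mul_pow, pow_succ ρ, pow_two, pow_succ σ, pow_two]
          _ = 1 := h4
      apply hjne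
      rw [hρd] at h5
      have h6 : x = t⁻¹ := eq_inv_of_mul_eq_one_right h5
      rw [h6, ti]
  -- the abelian normal subgroup
  have hcc : ∀ k ∈ K, ∀ l ∈ K, (k * t * k⁻¹) * (l * t * l⁻¹) = (l * t * l⁻¹) * (k * t * k⁻¹) := by
    intro k hk l hl
    have h1 := hcomm (k⁻¹ * l) (mul_mem (inv_mem hk) hl)
    calc (k * t * k⁻¹) * (l * t * l⁻¹) = k * (t * (k⁻¹ * l * t * (k⁻¹ * l)⁻¹)) * k⁻¹ := by group
      _ = k * (k⁻¹ * l * t * (k⁻¹ * l)⁻¹ * t) * k⁻¹ := by rw [h1]
      _ = _ := by group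
  set A : Set K := {a | ∃ k ∈ K, (a : X) = t * (k * t * k⁻¹)} with hA
  have hAc : ∀ a ∈ A, ∀ b ∈ A, a * b = b * a := by
    rintro a ⟨k, hk, ha⟩ b ⟨l, hl, hb⟩
    apply Subtype.ext
    show (a : X) * b = b * a
    rw [ha, hb]
    have c1 : Commute t (k * t * k⁻¹) := hcomm k hk
    have c2 : Commute t (l * t * l⁻¹) := hcomm l hl
    have c3 : Commute (k * t * k⁻¹) (l * t * l⁻¹) := hcc k hk l hl
    exact (((Commute.refl t).mul_right c2).mul_left (c1.symm.mul_right c3)).eq
  have hAn : ∀ a ∈ A, ∀ l : K, l * a * l⁻¹ ∈ closure A := by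
    rintro a ⟨k, hk, ha⟩ l
    have m1 : (⟨t * ((l : X) * t * (l : X)⁻¹), hσ l l.2⟩ : K) ∈ A := ⟨l, l.2, rfl⟩
    have m2 : (⟨t * (((l : X) * k) * t * ((l : X) * k)⁻¹), hσ _ (mul_mem l.2 hk)⟩ : K) ∈ A :=
      ⟨_, mul_mem l.2 hk, rfl⟩
    have e : l * a * l⁻¹ = (⟨t * ((l : X) * t * (l : X)⁻¹), hσ l l.2⟩ : K) *
        ⟨t * (((l : X) * k) * t * ((l : X) * k)⁻¹), hσ _ (mul_mem l.2 hk)⟩ := by
      apply Subtype.ext
      show (l : X) * a * (l : X)⁻¹ = t * ((l : X) * t * (l : X)⁻¹) * (t * (((l : X) * k) * t * ((l : X) * k)⁻¹))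
      rw [ha]
      have c1 := hcomm l l.2
      calc (l : X) * (t * (k * t * k⁻¹)) * (l : X)⁻¹
          = ((l : X) * t * (l : X)⁻¹) * (((l : X) * k) * t * ((l : X) * k)⁻¹) := by group
        _ = ((l : X) * t * (l : X)⁻¹) * (t * t) * (((l : X) * k) * t * ((l : X) * k)⁻¹) := by rw [tt]; group
        _ = ((l : X) * t * (l : X)⁻¹ * t) * (t * (((l : X) * k) * t * ((l : X) * k)⁻¹)) := by group
        _ = _ := by rw [← c1]
    rw [e]
    exact mul_mem (subset_closure m1) (subset_closure m2)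
  have hnorm : (closure A).Normal := by
    constructor
    intro a ha l
    have h1 : closure A ≤ (closure A).comap (MulAut.conj l).toMonoidHom := by
      rw [closure_le]
      exact fun a ha => hAn a ha l
    exact h1 ha
  have hcomm2 : ∀ a ∈ closure A, ∀ b ∈ closure A, a * b = b * a := by
    have hmc : IsMulCommutative (closure A) := Subgroup.isMulCommutative_closure fun x hx y hy => hAc x hx y hy
    intro a ha b hb
    have h3 : (⟨a, ha⟩ : closure A) * ⟨b, hb⟩ = ⟨b, hb⟩ * ⟨a, ha⟩ := mul_comm' _ _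
    exact congrArg Subtype.val h3
  rcases Cfsg.Agent.Lib.ComponentSolvable.quasisimple_normal_cases hK hnorm with h | h
  · apply EvDiag.qs_not_comm hK
    intro a ha b hb
    exact congrArg Subtype.val (hcomm2 ⟨a, ha⟩ (by rw [h]; exact mem_top _) ⟨b, hb⟩ (by rw [h]; exact mem_top _))
  · obtain ⟨k, hk, hkne⟩ := hneK
    apply hkne
    refine comm_of_center (Subgroup.isPerfect_iff.mp hK.1) ?_ k hk
    intro x hx
    refine ⟨_, hσ x hx, fun y hy => ?_, ?_⟩
    · have m1 : (⟨t * (x * t * x⁻¹), hσ x hx⟩ : K) ∈ closure A := subset_closure ⟨x, hx, rfl⟩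
      exact (congrArg Subtype.val (mem_center_iff.1 (h m1) ⟨y, hy⟩)).symm
    · rw [ti]; group

end Cfsg.Agent.OddHalf.NI3.Ex.FiRow.Kill
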