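import Cfsg.Agent.OddHalf.NI3.Ex.FiRow.Kill
import Cfsg.Agent.OddHalf.NI.Ex.Defs
import Cfsg.Agent.Cit.Comp

/-!
# (EX3), row `Fi22`: components at a transposition with nonabelian simple centralizer (helper286)

`α² = 1`, `t` a 3-transposition fixed by `α`, `C(t) ∩ fix α` an extension of `⟨t⟩` by a simple group `S`. A component
`J` of `fix α` satisfies `|J / Z(J)| = |S|` or it is normalised, not centralised by `t`, and `J ∩ C(t)` maps onto `S`.
-/

set_option autoImplicit false
set_option linter.style.haveILetI false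

namespace Cfsg.Agent.OddHalf.NI3.Ex.FiRow.SType

open Subgroup Cfsg Cfsg.Agent.OddHalf.NI Cfsg.Agent.OddHalf.NI.Ex
open Cfsg.Agent.OddHalf.NI3.Ex.FiRow.Kill
open Cfsg.Agent.OddHalf.D3.EvDiag (qi index_center_of_surj Co Dg Dg_mem perfect_le_Dg qi_Dg qs_perfect qs_not_comm)
open Cfsg.Agent.SignalizersComponents

universe u

variable {X : Type u} [Group X]

/-- A component of an extension of an abelian group by a simple group. -/
theorem qi_of_comp {M K : Subgroup X} (h : CompIn M K) {S : Type*} [Group S] [hs : IsSimpleGroup S]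
    (hna : ∃ a b : S, a * b ≠ b * a) (q : ↥M →* S) (hq : Function.Surjective q)
    (hk : ∀ x y : ↥M, q x = 1 → q y = 1 → x * y = y * x) : qi K = Nat.card S := by
  have h1 := (h.comp.1.map hq).eq_bot_or_top_of_isSimpleGroup hs
  rcases h1 with h1 | h1
  · exfalso
    apply qs_not_comm h.quasi
    intro x hx y hy
    have hm : ∀ z (hz : z ∈ K), q ⟨z, h.le hz⟩ = 1 := by
      intro z hz
      have : q ⟨z, h.le hz⟩ ∈ (K.subgroupOf M).map q := ⟨_, hz, rfl⟩
      rw [h1] at this
      exact mem_bot.1 this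
    exact congrArg Subtype.val (hk ⟨x, h.le hx⟩ ⟨y, h.le hy⟩ (hm x hx) (hm y hy))
  · have h2 : Function.Surjective (q.comp (Subgroup.inclusion h.le)) := by
      intro s
      have : s ∈ (K.subgroupOf M).map q := by rw [h1]; exact mem_top s
      obtain ⟨x, hx, rfl⟩ := this
      exact ⟨⟨x, hx⟩, rfl⟩
    have h3 : (center S).index = (center ↥K).index := by
      refine index_center_of_surj h.quasi _ h2 ?_
      intro hc
      obtain ⟨a, b, hab⟩ := hna
      exact hab (hc a b)
    have h4 : center S = ⊥ := by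
      rcases hs.eq_bot_or_eq_top_of_normal (center S) inferInstance with h5 | h5
      · exact h5
      · exfalso
        obtain ⟨a, b, hab⟩ := hna
        apply hab
        have : b ∈ center S := by rw [h5]; exact mem_top b
        exact mem_center_iff.1 this a
    show (center ↥K).index = _
    rw [← h3, h4, index_bot]

variable {T : Set X} {α : MulAut X} {t : X} {S : Type*} [Group S]

/-- The hypothesis on `C(t) ∩ fix α`. -/
structure Ext (α : MulAut X) (t : X) (q : ↥(fix α ⊓ centralizer ({t} : Set X)) →* S) : Prop where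
  simple : IsSimpleGroup S
  na : ∃ a b : S, a * b ≠ b * a
  surj : Function.Surjective q
  ker : ∀ x, q x = 1 ↔ (x : X) = 1 ∨ (x : X) = t

theorem Ext.comm {q : ↥(fix α ⊓ centralizer ({t} : Set X)) →* S} (h : Ext α t q) (x y : ↥(fix α ⊓ centralizer ({t} : Set X)))
    (hx : q x = 1) (hy : q y = 1) : x * y = y * x := by
  apply Subtype.ext
  show (x : X) * y = y * x
  rcases (h.ker x).1 hx with h1 | h1 <;> rcases (h.ker y).1 hy with h2 | h2 <;> rw [h1, h2]
  · rw [one_mul, mul_one]
  · rw [one_mul, mul_one]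

/-- The case in which `t` normalises `J` without centralising it. -/
structure Bc (α : MulAut X) (t : X) (q : ↥(fix α ⊓ centralizer ({t} : Set X)) →* S) (J : Subgroup X) : Prop where
  norm : ∀ m ∈ fix α ⊓ centralizer ({t} : Set X), ∀ j ∈ J, m * j * m⁻¹ ∈ J
  moved : ∃ j ∈ J, t * j ≠ j * t
  onto : ∀ s : S, ∃ x : ↥(fix α ⊓ centralizer ({t} : Set X)), (x : X) ∈ J ∧ q x = s

theorem cases [Finite X] (hT : Tr T) (ht : t ∈ T) (hat : α t = t)
    {q : ↥(fix α ⊓ centralizer ({t} : Set X)) →* S} (hq : Ext α t q) {J : Subgroup X} (hJ : CompIn (fix α) J)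
    (h2 : 2 ∣ Nat.card ↥J) : qi J = Nat.card S ∨ Bc α t q J := by
  have hs := hq.simple
  have tt := hT.sq t ht
  have ti := hT.inv ht
  have hcjF : ∀ m ∈ fix α, D3.cj m (fix α) = fix α := by
    intro m hm
    ext x
    rw [D3.mem_cj]
    constructor
    · intro h
      have h1 := mul_mem (mul_mem hm h) (inv_mem hm)
      have e : m * (m⁻¹ * x * m) * m⁻¹ = x := by group
      rwa [e] at h1
    · intro h
      exact mul_mem (mul_mem (inv_mem hm) h) hm
  by_cases hcen : ∀ j ∈ J, t * j = j * t
  · -- `t` centralises `J`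
    left
    have hle : J ≤ fix α ⊓ centralizer ({t} : Set X) :=
      fun j hj => ⟨hJ.le hj, mem_centralizer_singleton_iff.2 (hcen j hj).symm⟩
    exact qi_of_comp (hJ.mono hle inf_le_left) hq.na q hq.surj hq.comm
  push Not at hcen
  by_cases hst : D3.cj t J = J
  · -- `t` normalises `J`
    right
    have hn : ∀ j ∈ J, t * j * t⁻¹ ∈ J := by
      intro j hj
      have := D3.conj_mem_cj (g := t) hj
      rwa [hst] at this
    have hnorm : ∀ m ∈ fix α ⊓ centralizer ({t} : Set X), D3.cj m J = J := by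
      intro m hm
      by_contra hne
      have hmt : m * t = t * m := mem_centralizer_singleton_iff.1 hm.2
      have hK : CompIn (fix α) (D3.cj m J) := hJ.conj_of_norm (hcjF m hm.1)
      have hmti : m⁻¹ * t = t * m⁻¹ := by
        rw [inv_mul_eq_iff_eq_mul, ← mul_assoc, hmt, mul_inv_cancel_right]
      refine unique_moved hT hJ.quasi hK.quasi h2 ht hn ?_ hcen ?_ ?_
      · intro k hk
        rw [D3.mem_cj] at hk ⊢
        have h1 := hn _ hk
        have e : t * (m⁻¹ * k * m) * t⁻¹ = m⁻¹ * (t * k * t⁻¹) * m := by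
          have e1 : m * t⁻¹ = t⁻¹ * m := by rw [ti]; exact hmt
          calc t * (m⁻¹ * k * m) * t⁻¹ = (t * m⁻¹) * k * (m * t⁻¹) := by group
            _ = (m⁻¹ * t) * k * (t⁻¹ * m) := by rw [hmti, e1]
            _ = m⁻¹ * (t * k * t⁻¹) * m := by group
        rwa [e] at h1
      · obtain ⟨j, hj, hjt⟩ := hcen
        refine ⟨m * j * m⁻¹, D3.conj_mem_cj hj, fun h => hjt ?_⟩
        have h1 : m * (t * j) * m⁻¹ = m * (j * t) * m⁻¹ := by
          calc m * (t * j) * m⁻¹ = (m * t) * j * m⁻¹ := by group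
            _ = t * (m * j * m⁻¹) := by rw [hmt]; group
            _ = m * j * m⁻¹ * t := h
            _ = m * j * (m⁻¹ * t) := by group
            _ = m * (j * t) * m⁻¹ := by rw [hmti]; group
        exact mul_left_cancel (mul_right_cancel h1)
      · intro a ha b hb
        have h1 := hJ.comm hK (Ne.symm hne) ha
        exact (mem_centralizer_iff.1 h1 b hb).symm
    have hnorm' : ∀ m ∈ fix α ⊓ centralizer ({t} : Set X), ∀ j ∈ J, m * j * m⁻¹ ∈ J := by
      intro m hm j hj
      have := D3.conj_mem_cj (g := m) hj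
      rwa [hnorm m hm] at this
    -- the image of `J ∩ M` is normal
    let A : Subgroup S := (J.subgroupOf (fix α ⊓ centralizer ({t} : Set X))).map q
    have hA : A.Normal := by
      have h1 : (J.subgroupOf (fix α ⊓ centralizer ({t} : Set X))).Normal := by
        constructor
        intro j hj m
        exact hnorm' m m.2 j hj
      exact h1.map q hq.surj
    refine ⟨hnorm', hcen, ?_⟩
    rcases hA.eq_bot_or_eq_top with h | h
    · exfalso
      obtain ⟨j, hj, hjne, hjc⟩ := exists_comm hT hJ.quasi h2 ht hn hcen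
      have hρ : t * (j * t * j⁻¹) ∈ J := by
        have h1 := mul_mem (hn j hj) (inv_mem hj)
        have e : t * j * t⁻¹ * j⁻¹ = t * (j * t * j⁻¹) := by rw [ti]; group
        rwa [e] at h1
      have hM : t * (j * t * j⁻¹) ∈ fix α ⊓ centralizer ({t} : Set X) := by
        refine ⟨hJ.le hρ, mem_centralizer_singleton_iff.2 ?_⟩
        rw [mul_assoc, ← hjc]
      have h3 : q ⟨_, hM⟩ ∈ A := ⟨_, hρ, rfl⟩
      rw [h, mem_bot] at h3
      rcases (hq.ker _).1 h3 with h4 | h4
      · apply hjne
        exact (eq_inv_of_mul_eq_one_right h4).trans ti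
      · have h5 : t * (j * t * j⁻¹) = t * 1 := by rw [mul_one]; exact h4
        exact hT.ne1 _ (hT.conj j t ht) (mul_left_cancel h5)
    · intro s
      have : s ∈ A := by rw [h]; exact mem_top s
      obtain ⟨x, hx, rfl⟩ := this
      exact ⟨x, hx, rfl⟩
  · -- `t` swaps `J` with another component
    left
    let z : ↥(fix α) := ⟨t, hat⟩
    have hne' : Cit.cj z (J.subgroupOf (fix α)) ≠ J.subgroupOf (fix α) := by
      intro h
      apply hst
      ext x
      constructor
      · intro hx
        rw [D3.mem_cj] at hx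
        have h1 : (⟨t⁻¹ * x * t, hJ.le hx⟩ : ↥(fix α)) ∈ J.subgroupOf (fix α) := hx
        have h3 : z * ⟨t⁻¹ * x * t, hJ.le hx⟩ * z⁻¹ ∈ Cit.cj z (J.subgroupOf (fix α)) := Cit.conj_mem_cj h1
        rw [h] at h3
        have h4 : t * (t⁻¹ * x * t) * t⁻¹ ∈ J := h3
        have e : t * (t⁻¹ * x * t) * t⁻¹ = x := by group
        rwa [e] at h4
      · intro hx
        rw [D3.mem_cj]
        have h1 : (⟨x, hJ.le hx⟩ : ↥(fix α)) ∈ J.subgroupOf (fix α) := hx
        rw [← h, Cit.mem_cj] at h1
        exact h1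
    have hzz : z * z = 1 := Subtype.ext tt
    obtain ⟨D, hDz, hDE, hDc, hDq, hD⟩ := Cit.Comp.exists_diag hJ.comp hzz hne'
    have hcomp : CompIn (centralizer ({z} : Set ↥(fix α))) D := ⟨hDz, hDc⟩
    have h3 := compIn_map hcomp
    have hM : (centralizer ({z} : Set ↥(fix α))).map (fix α).subtype = fix α ⊓ centralizer ({t} : Set X) := by
      ext x
      constructor
      · rintro ⟨y, hy, rfl⟩
        refine ⟨y.2, mem_centralizer_singleton_iff.2 ?_⟩
        exact congrArg Subtype.val (mem_centralizer_singleton_iff.1 hy)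
      · rintro ⟨h4, h5⟩
        refine ⟨⟨x, h4⟩, mem_centralizer_singleton_iff.2 (Subtype.ext ?_), rfl⟩
        exact mem_centralizer_singleton_iff.1 h5
    rw [hM] at h3
    have hK : CompIn (fix α) (D3.cj t J) := hJ.conj_of_norm (hcjF t hat)
    have hco : Co J t := by
      intro a ha b hb
      have h1 := hJ.comm hK (Ne.symm hst) ha
      exact (mem_centralizer_iff.1 h1 b hb).symm
    have hDle : D.map (fix α).subtype ≤ Dg J t hco := by
      refine perfect_le_Dg hco tt (qs_perfect h3.quasi) ?_ ?_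
      · rintro _ ⟨x, hx, rfl⟩
        have h4 := hDE hx
        have h5 : J.subgroupOf (fix α) ⊔ Cit.cj z (J.subgroupOf (fix α)) ≤
            (J ⊔ D3.cj t J).comap (fix α).subtype := by
          refine sup_le (fun y hy => ?_) (fun y hy => ?_)
          · exact mem_sup_left hy
          · rw [Cit.mem_cj] at hy
            refine mem_sup_right ?_
            show (y : X) ∈ D3.cj t J
            rw [D3.mem_cj]
            exact hy
        exact h5 h4
      · rintro _ ⟨x, hx, rfl⟩
        exact congrArg Subtype.val (mem_centralizer_singleton_iff.1 (hDz hx))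
    have hDge : Dg J t hco ≤ D.map (fix α).subtype := by
      rintro _ ⟨j, rfl⟩
      have h4 := hD ⟨j, hJ.le j.2⟩ j.2
      exact ⟨_, h4, rfl⟩
    rw [← qi_Dg hco hJ.quasi, ← le_antisymm hDle hDge]
    exact qi_of_comp h3 hq.na q hq.surj hq.comm

/-! ### Numerical consequences of the case `Bc` -/

section numbers

variable {q : ↥(fix α ⊓ centralizer ({t} : Set X)) →* S} {J : Subgroup X}

theorem Ext.center (hq : Ext α t q) {s : S} (h : ∀ x, s * x = x * s) : s = 1 := by
  have hs := hq.simple
  have h1 : s ∈ Subgroup.center S := mem_center_iff.2 fun x => (h x).symm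
  rcases hs.eq_bot_or_eq_top_of_normal (Subgroup.center S) inferInstance with h5 | h5
  · rw [h5] at h1; exact mem_bot.1 h1
  · exfalso
    obtain ⟨a, b, hab⟩ := hq.na
    apply hab
    have : b ∈ Subgroup.center S := by rw [h5]; exact mem_top b
    exact mem_center_iff.1 this a

/-- an element of `C(t) ∩ fix α` centralising `J ∩ C(t)`, not `t`, is trivial -/
theorem Bc.central (hq : Ext α t q) (B : Bc α t q J) {m : X} (hm : m ∈ fix α ⊓ centralizer ({t} : Set X))
    (h : ∀ j ∈ J, j ∈ centralizer ({t} : Set X) → m * j = j * m) : m = 1 ∨ m = t := by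
  refine (hq.ker ⟨m, hm⟩).1 (hq.center fun s => ?_)
  obtain ⟨x, hx, rfl⟩ := B.onto s
  rw [← map_mul, ← map_mul]
  congr 1
  exact Subtype.ext (h x hx x.2.2)

/-- the centralizer of `J` -/
theorem Bc.cent_eq (hq : Ext α t q) (B : Bc α t q J) {m : X} (hm : m ∈ fix α ⊓ centralizer ({t} : Set X))
    (h : ∀ j ∈ J, m * j = j * m) : m = 1 := by
  rcases B.central hq hm (fun j hj _ => h j hj) with h1 | h1
  · exact h1
  · exfalso
    obtain ⟨j, hj, hjt⟩ := B.moved
    exact hjt (by rw [← h1]; exact h j hj)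

/-- the orders -/
theorem Bc.card_dvd (B : Bc α t q J) (hle : J ≤ fix α) :
    Nat.card S ∣ Nat.card ↥(J ⊓ centralizer ({t} : Set X)) := by
  have hle' : J ⊓ centralizer ({t} : Set X) ≤ fix α ⊓ centralizer ({t} : Set X) :=
    le_inf (inf_le_left.trans hle) inf_le_right
  refine card_dvd_of_surjective (q.comp (Subgroup.inclusion hle')) fun s => ?_
  obtain ⟨x, hx, rfl⟩ := B.onto s
  exact ⟨⟨x, hx, x.2.2⟩, rfl⟩

theorem Ext.card_M [Finite X] (hq : Ext α t q) : Nat.card ↥(fix α ⊓ centralizer ({t} : Set X)) ∣ 2 * Nat.card S := by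
  have h1 := q.ker.card_mul_index
  rw [Subgroup.index_ker, MonoidHom.range_eq_top.2 hq.surj, Subgroup.card_top] at h1
  rw [← h1]
  apply Nat.mul_dvd_mul_right
  -- the kernel has order at most two
  have h2 : ∀ x ∈ q.ker, x = 1 ∨ (x : X) = t := by
    intro x hx
    rcases (hq.ker x).1 hx with h | h
    · exact Or.inl (Subtype.ext h)
    · exact Or.inr h
  have h3 : Nat.card ↥q.ker ≤ 2 := by
    classical
    let f : ↥q.ker → Bool := fun x => decide ((x : ↥(fix α ⊓ centralizer ({t} : Set X))) = 1)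
    have hf : Function.Injective f := by
      intro x y hxy
      have h4 : ((x : ↥(fix α ⊓ centralizer ({t} : Set X))) = 1) ↔
          ((y : ↥(fix α ⊓ centralizer ({t} : Set X))) = 1) := by
        simpa [f] using hxy
      rcases h2 x x.2 with h5 | h5
      · apply Subtype.ext
        rw [h5, h4.1 h5]
      · by_cases h6 : (x : ↥(fix α ⊓ centralizer ({t} : Set X))) = 1
        · apply Subtype.ext
          rw [h6, h4.1 h6]
        · rcases h2 y y.2 with h7 | h7
          · exact absurd (h4.2 h7) h6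
          · apply Subtype.ext
            apply Subtype.ext
            rw [h5, h7]
    calc Nat.card ↥q.ker ≤ Nat.card Bool := Nat.card_le_card_of_injective f hf
      _ = 2 := by rw [Nat.card_eq_fintype_card]; rfl
  have h4 : 0 < Nat.card ↥q.ker := Nat.card_pos
  interval_cases h : Nat.card ↥q.ker
  · exact one_dvd 2
  · exact dvd_refl 2

theorem Bc.card_dvd' [Finite X] (hq : Ext α t q) (hle : J ≤ fix α) :
    Nat.card ↥(J ⊓ centralizer ({t} : Set X)) ∣ 2 * Nat.card S := by
  have hle' : J ⊓ centralizer ({t} : Set X) ≤ fix α ⊓ centralizer ({t} : Set X) :=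
    le_inf (inf_le_left.trans hle) inf_le_right
  exact (card_dvd_of_le hle').trans hq.card_M

theorem Bc.card_dvd_qi [Finite X] (hq : Ext α t q) (B : Bc α t q J) (hle : J ≤ fix α) :
    Nat.card ↥(J ⊓ centralizer ({t} : Set X)) ∣ qi J := by
  let f : ↥(J ⊓ centralizer ({t} : Set X)) →* (↥J ⧸ center ↥J) :=
    (QuotientGroup.mk' (center ↥J)).comp (Subgroup.inclusion inf_le_left)
  have hf : Function.Injective f := by
    rw [injective_iff_map_eq_one]
    intro x hx
    have h1 : (Subgroup.inclusion inf_le_left x : ↥J) ∈ center ↥J := (QuotientGroup.eq_one_iff _).1 hx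
    apply Subtype.ext
    refine B.cent_eq hq ⟨hle x.2.1, x.2.2⟩ fun j hj => ?_
    exact (congrArg Subtype.val (mem_center_iff.1 h1 ⟨j, hj⟩)).symm
  have h1 := card_subgroup_dvd_card f.range
  rw [Nat.card_congr (MonoidHom.ofInjective hf).symm.toEquiv] at h1
  exact h1

/-- the index -/
theorem Bc.card_le [Finite X] (hT : Tr T) (ht : t ∈ T) (hat : α t = t) (hle : J ≤ fix α) :
    Nat.card ↥J ≤ {x | x ∈ T ∧ α x = x}.ncard * Nat.card ↥(J ⊓ centralizer ({t} : Set X)) := by
  have h1 := ((J ⊓ centralizer ({t} : Set X)).subgroupOf J).card_mul_index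
  have h2 : Nat.card ↥((J ⊓ centralizer ({t} : Set X)).subgroupOf J) =
      Nat.card ↥(J ⊓ centralizer ({t} : Set X)) := Nat.card_congr (subgroupOfEquivOfLe inf_le_left).toEquiv
  rw [← h1, h2, mul_comm]
  apply Nat.mul_le_mul_right
  let A : Set X := {x | x ∈ T ∧ α x = x}
  have hmem : ∀ j : ↥J, (j : X) * t * (j : X)⁻¹ ∈ A := by
    intro j
    refine ⟨hT.conj j t ht, ?_⟩
    rw [map_mul, map_mul, map_inv, hat, show α (j : X) = j from hle j.2]
  have hw : ∀ a b : ↥J, a⁻¹ * b ∈ (J ⊓ centralizer ({t} : Set X)).subgroupOf J ↔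
      (a : X) * t * (a : X)⁻¹ = b * t * (b : X)⁻¹ := by
    intro a b
    have e : a⁻¹ * b ∈ (J ⊓ centralizer ({t} : Set X)).subgroupOf J ↔
        (a : X)⁻¹ * b * t = t * ((a : X)⁻¹ * b) := by
      constructor
      · intro h
        exact mem_centralizer_singleton_iff.1 h.2
      · intro h
        exact ⟨(a⁻¹ * b).2, mem_centralizer_singleton_iff.2 h⟩
    rw [e]
    constructor
    · intro h
      calc (a : X) * t * (a : X)⁻¹ = a * (t * ((a : X)⁻¹ * b)) * (b : X)⁻¹ := by group
        _ = a * ((a : X)⁻¹ * b * t) * (b : X)⁻¹ := by rw [h]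
        _ = b * t * (b : X)⁻¹ := by group
    · intro h
      calc (a : X)⁻¹ * b * t = (a : X)⁻¹ * (b * t * (b : X)⁻¹) * b := by group
        _ = (a : X)⁻¹ * (a * t * (a : X)⁻¹) * b := by rw [h]
        _ = t * ((a : X)⁻¹ * b) := by group
  let f : ↥J ⧸ ((J ⊓ centralizer ({t} : Set X)).subgroupOf J) → A := fun x =>
    Quotient.liftOn' x (fun j => (⟨_, hmem j⟩ : A)) (by
      intro a b hab
      have h3 := QuotientGroup.leftRel_apply.1 hab
      exact Subtype.ext ((hw a b).1 h3))
  have hf : Function.Injective f := by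
    intro x y
    refine Quotient.inductionOn₂' x y fun a b h => ?_
    have h3 : (a : X) * t * (a : X)⁻¹ = b * t * (b : X)⁻¹ := congrArg Subtype.val h
    exact Quotient.sound' (QuotientGroup.leftRel_apply.2 ((hw a b).2 h3))
  have h3 : Nat.card (↥J ⧸ ((J ⊓ centralizer ({t} : Set X)).subgroupOf J)) ≤ Nat.card A :=
    Nat.card_le_card_of_injective f hf
  exact h3

end numbers

end Cfsg.Agent.OddHalf.NI3.Ex.FiRow.SType
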