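import Cfsg.Agent.OddHalf.NI3.Ex.FiRow.Cent
import Cfsg.Agent.OddHalf.NI3.Ex.FiRow.SType

/-!
# (EX3), row `Fi22`: the outer automorphisms (helper286)

`outer`: `α² = 1`, `α` not inner, `J` a component of `fix α` of even order: `|J / Z(J)| = |Sp₆(2)|` or the case `Bc` at
some fixed transposition.
-/

set_option autoImplicit false
set_option linter.style.haveILetI false
set_option linter.unusedSectionVars false

namespace Cfsg.Agent.OddHalf.NI3.Ex.FiRow.Outer

open Subgroup Cfsg Cfsg.Agent.OddHalf.NI Cfsg.Agent.OddHalf.NI.Ex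
open Cfsg.Agent.OddHalf.NI3.Ex.FiRow.Base Cfsg.Agent.OddHalf.NI3.Ex.FiRow.Twin
open Cfsg.Agent.OddHalf.NI3.Ex.FiRow.Semi Cfsg.Agent.OddHalf.NI3.Ex.FiRow.FixSp
open Cfsg.Agent.OddHalf.NI3.Ex.FiRow.Cent
open Cfsg.Agent.LieClassical.HermBasic Cfsg.Agent.ClassicalGeometry.UnitTransv
open Cfsg.Agent.SporadicStructure.UnitTwo
open Cfsg.Agent.R01.Lifts Cfsg.Agent.R01.PSUSix Cfsg.Agent.R01.Label Cfsg.Agent.R01.InvForm
open Cfsg.Agent.R01.Start (zel)
open Cfsg.Agent.R01.Frames (Hyp)
open Cfsg.Agent.R01.ComLabel (Iso)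
open Cfsg.Agent.U62.Semi Cfsg.Agent.U62.Semi2
open Cfsg.Agent.Co2Type.Setup (Sp6 isSimpleGroup_sp6 card_sp6 center_sp6)
open Cfsg.Agent.OddHalf.D3.EvDiag (qi)
open Cfsg.Agent.OddHalf.NI3.Ex.FiRow.SType (Bc)

theorem tr : Kill.Tr (Base.T : Set Spor.Fi22) := ⟨kt.sq, kt.ne1, kt.conj, kt.three⟩

theorem sp6_na : ∃ a b : Sp6, a * b ≠ b * a := by
  by_contra hcon
  push Not at hcon
  have h1 : Subgroup.center Sp6 = ⊤ := by
    rw [eq_top_iff]
    intro x _
    exact mem_center_iff.2 fun y => hcon y x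
  have h2 : Nat.card Sp6 = 1 := by
    rw [← Subgroup.card_top (G := Sp6), ← h1, center_sp6, Subgroup.card_bot]
  rw [card_sp6] at h2
  omega

variable {F : Type*} [Field F] [Fintype F] {hF : Fintype.card F = 2 ^ 2}
variable {α : MulAut Spor.Fi22} {t : Spor.Fi22} {π : centralizer ({t} : Set Spor.Fi22) →* PSU 6 F 2}
  {lift : (Fin 6 → F) → centralizer ({t} : Set Spor.Fi22)} {φ : (Fin 6 → F) → (Fin 6 → F)}
  {g k : Fin 3 → (Fin 6 → F)}

theorem exists_ext (D : SDat hF α t π lift φ g k) :
    ∃ q : ↥(fix α ⊓ centralizer ({t} : Set Spor.Fi22)) →* Sp6, SType.Ext α t q := by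
  obtain ⟨q, h1, h2⟩ := D.spSix
  exact ⟨q, isSimpleGroup_sp6, sp6_na, h1, h2⟩

/-! ### An elementary abelian subgroup of `C(t) ∩ fix α` -/

/-- the vectors of a totally isotropic subspace over the field with two elements -/
def vec (g : Fin 3 → (Fin 6 → F)) (x : Fin 3 → Bool) : Fin 6 → F := ∑ i, (if x i then (1 : F) else 0) • g i

theorem herm_vec (hF : Fintype.card F = 2 ^ 2) (hb : Hyp g k) (x : Fin 3 → Bool) (i : Fin 3) :
    hermForm 6 F 2 (vec g x) (k i) = if x i then 1 else 0 := by
  rw [vec, Fin.sum_univ_three, herm_add_left, herm_add_left, herm_smul_left, herm_smul_left, herm_smul_left,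
    hb.gk, hb.gk, hb.gk]
  fin_cases i <;> simp

theorem herm_vec_vec (hF : Fintype.card F = 2 ^ 2) (hb : Hyp g k) (x y : Fin 3 → Bool) :
    hermForm 6 F 2 (vec g x) (vec g y) = 0 := by
  have h1 : ∀ i, hermForm 6 F 2 (vec g x) (g i) = 0 := by
    intro i
    rw [vec, Fin.sum_univ_three, herm_add_left, herm_add_left, herm_smul_left, herm_smul_left, herm_smul_left,
      hb.gg, hb.gg, hb.gg]
    ring
  rw [vec.eq_def g y, Fin.sum_univ_three, herm_add_right hF, herm_add_right hF, herm_smul_right, herm_smul_right,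
    herm_smul_right, h1, h1, h1]
  ring

theorem vec_ne (hF : Fintype.card F = 2 ^ 2) (hb : Hyp g k) {x : Fin 3 → Bool} (hx : x ≠ fun _ => false) :
    vec g x ≠ 0 := by
  intro h
  apply hx
  funext i
  have h1 := herm_vec hF hb x i
  rw [h, herm_zero_left] at h1
  by_contra h2
  rw [Bool.not_eq_false] at h2
  rw [h2, if_pos rfl] at h1
  exact zero_ne_one h1

theorem phi_vec (D : SDat hF α t π lift φ g k) (x : Fin 3 → Bool) : φ (vec g x) = vec g x := by
  rw [vec, Fin.sum_univ_three, D.sem.add, D.sem.add, D.sem.smul, D.sem.smul, D.sem.smul, D.fg, D.fg, D.fg]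
  have : ∀ b : Bool, (if b then (1 : F) else 0) ^ 2 = if b then 1 else 0 := by
    intro b
    cases b <;> simp
  rw [this, this, this]

/-- **An elementary abelian subgroup of order more than eight.** -/
theorem exists_E (D : SDat hF α t π lift φ g k) : ∃ E : Subgroup Spor.Fi22,
    E ≤ fix α ⊓ centralizer ({t} : Set Spor.Fi22) ∧ (∀ a ∈ E, a * a = 1) ∧ 8 < Nat.card ↥E := by
  classical
  have hiso : ∀ x : Fin 3 → Bool, (x ≠ fun _ => false) → Iso F (vec g x) := fun x hx =>
    ⟨vec_ne hF D.hyp hx, herm_vec_vec hF D.hyp x x⟩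
  have hA : ∀ x : Fin 3 → Bool, (x ≠ fun _ => false) → (lift (vec g x) : Spor.Fi22) ∈ A α t := fun x hx =>
    Semi.Dat.mem_A D.toDat (hiso x hx) (phi_vec D x)
  set Aset : Set Spor.Fi22 := {y | y = t ∨ ∃ x : Fin 3 → Bool, (x ≠ fun _ => false) ∧ y = lift (vec g x)} with hAset
  have hsq : ∀ y ∈ Aset, y * y = 1 := by
    rintro y (rfl | ⟨x, hx, rfl⟩)
    · exact kt.sq _ D.tT
    · exact kt.sq _ (hA x hx).1.1
  have hcomm : ∀ y ∈ Aset, ∀ z ∈ Aset, y * z = z * y := by
    rintro y (rfl | ⟨x, hx, rfl⟩) z (rfl | ⟨w, hw, rfl⟩)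
    · rfl
    · exact (hA w hw).2.2.symm
    · exact (hA x hx).2.2
    · have h1 := (D.lab.commute_iff (hiso x hx).2 (hiso w hw).2 (hiso x hx).1 (hiso w hw).1).2
        (herm_vec_vec hF D.hyp x w)
      exact congrArg Subtype.val h1.eq
  have key : ∀ x ∈ closure Aset, x * x = 1 := by
    have hcm : IsMulCommutative (closure Aset) :=
      Subgroup.isMulCommutative_closure fun x hx y hy => hcomm x hx y hy
    intro x hx
    induction hx using Subgroup.closure_induction with
    | mem x hx => exact hsq x hx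
    | one => exact mul_one 1
    | mul x y hx hy h1 h2 =>
      have h3 : (⟨x, hx⟩ : closure Aset) * ⟨y, hy⟩ = ⟨y, hy⟩ * ⟨x, hx⟩ := mul_comm' _ _
      have h4 : x * y = y * x := congrArg Subtype.val h3
      calc x * y * (x * y) = x * (y * x) * y := by group
        _ = x * (x * y) * y := by rw [h4]
        _ = (x * x) * (y * y) := by group
        _ = 1 := by rw [h1, h2, one_mul]
    | inv x _ h1 => rw [← mul_inv_rev, h1, inv_one]
  refine ⟨closure Aset, ?_, key, ?_⟩
  · rw [closure_le]
    rintro y (rfl | ⟨x, hx, rfl⟩)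
    · exact ⟨D.fixt, mem_centralizer_singleton_iff.2 rfl⟩
    · exact ⟨(hA x hx).1.2, (lift (vec g x)).2⟩
  · -- nine elements
    have hmem : ∀ x : Fin 3 → Bool, (if x = (fun _ => false) then (1 : Spor.Fi22) else lift (vec g x)) ∈
        closure Aset := by
      intro x
      split_ifs with h
      · exact one_mem _
      · exact subset_closure (Or.inr ⟨x, h, rfl⟩)
    have ht : t ∈ closure Aset := subset_closure (Or.inl rfl)
    let f : Option (Fin 3 → Bool) → ↥(closure Aset) := fun o =>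
      match o with
      | none => ⟨t, ht⟩
      | some x => ⟨_, hmem x⟩
    have ht1 : t ≠ 1 := kt.ne1 t D.tT
    have hlt : ∀ x : Fin 3 → Bool, (if x = (fun _ => false) then (1 : Spor.Fi22) else lift (vec g x)) ≠ t := by
      intro x
      split_ifs with h
      · exact Ne.symm ht1
      · exact (hA x h).2.1
    have hf : Function.Injective f := by
      rintro (_ | x) (_ | y) hxy
      · rfl
      · exact absurd (congrArg Subtype.val hxy).symm (hlt y)
      · exact absurd (congrArg Subtype.val hxy) (hlt x)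
      · have h1 : (if x = (fun _ => false) then (1 : Spor.Fi22) else lift (vec g x)) =
            (if y = (fun _ => false) then (1 : Spor.Fi22) else lift (vec g y)) := congrArg Subtype.val hxy
        congr 1
        by_cases hx : x = fun _ => false
        · by_cases hy : y = fun _ => false
          · rw [hx, hy]
          · exfalso
            rw [if_pos hx, if_neg hy] at h1
            exact kt.ne1 _ (hA y hy).1.1 h1.symm
        · by_cases hy : y = fun _ => false
          · exfalso
            rw [if_neg hx, if_pos hy] at h1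
            exact kt.ne1 _ (hA x hx).1.1 h1
          · rw [if_neg hx, if_neg hy] at h1
            obtain ⟨c, hc0, hc⟩ := (D.lab.lift_eq_iff (hiso x hx).2 (hiso y hy).2 (hiso x hx).1
              (hiso y hy).1).1 (Subtype.ext h1)
            have h2 : ∀ i, (if y i then (1 : F) else 0) = c * if x i then 1 else 0 := by
              intro i
              rw [← herm_vec hF D.hyp y i, ← herm_vec hF D.hyp x i, hc, herm_smul_left]
            funext i
            have h3 := h2 i
            cases hxi : x i <;> cases hyi : y i <;> simp_all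
    have h1 := Nat.card_le_card_of_injective f hf
    have h2 : Nat.card (Option (Fin 3 → Bool)) = 9 := by
      rw [Nat.card_eq_fintype_card]; rfl
    omega

/-! ### The dichotomy -/

/-- **The outer involutory automorphisms.** -/
theorem outer {α : MulAut Spor.Fi22} (hα : α * α = 1) (hni : ∀ y, α ≠ MulAut.conj y) {J : Subgroup Spor.Fi22}
    (hJ : CompIn (fix α) J) (h2 : 2 ∣ Nat.card ↥J) : qi J = 1451520 ∨
    ∃ t ∈ TA α, ∃ q : ↥(fix α ⊓ centralizer ({t} : Set Spor.Fi22)) →* Sp6, SType.Ext α t q ∧ Bc α t q J ∧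
      ∃ E : Subgroup Spor.Fi22, E ≤ fix α ⊓ centralizer ({t} : Set Spor.Fi22) ∧ (∀ a ∈ E, a * a = 1) ∧
        8 < Nat.card ↥E := by
  by_cases hA : All α
  · exact (false_of_all hα hA hJ).elim
  unfold All at hA
  push Not at hA
  obtain ⟨t, ht, hno⟩ := hA
  obtain ⟨π, lift, e, φ, he, D⟩ := exists_dat hα ht
  rcases he with rfl | rfl
  · obtain ⟨y, hy⟩ := D.inner
    exact absurd hy (hni y)
  obtain ⟨g, k, hb, hg, hk1, hk2, hk0⟩ := semi_normal Fischer.Unit22.hF D.sem D.inv
  rcases hk0 with hk0 | hk0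
  · have hk : ∀ i, φ (k i) = k i := by
      intro i
      fin_cases i
      exacts [hk0, hk1, hk2]
    have D' : SDat Fischer.Unit22.hF α t π lift φ g k := ⟨D, hb, hg, hk⟩
    obtain ⟨q, hq⟩ := exists_ext D'
    have hfin : Finite Spor.Fi22 := Base.fin
    rcases SType.cases tr ht.1 ht.2 hq hJ h2 with h | h
    · left; rw [h, card_sp6]
    · right
      exact ⟨t, ht, q, hq, h, exists_E D'⟩
  · exact absurd (D.twin hb hg hk1 hk2 hk0) (hno _)

end Cfsg.Agent.OddHalf.NI3.Ex.FiRow.Outer
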