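import Cfsg.Agent.OddHalf.NI3.Ex.FiRow.Twin
import Cfsg.Agent.U62.Sys

/-!
# (EX3), row `Fi22`: an involutory automorphism at a fixed transposition (helper286)

`Dat α t`: `α² = 1`, `α t = t`; labels `lift v` of the transpositions commuting with `t`, `α (lift v) = lift (φ v)`.
-/

set_option autoImplicit false
set_option linter.style.haveILetI false
set_option linter.unusedSectionVars false

namespace Cfsg.Agent.OddHalf.NI3.Ex.FiRow.Semi

open Subgroup Cfsg Cfsg.Agent.OddHalf.NI Cfsg.Agent.OddHalf.NI.Ex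
open Cfsg.Agent.OddHalf.NI3.Ex.FiRow.Base Cfsg.Agent.OddHalf.NI3.Ex.FiRow.Twin
open Cfsg.Agent.LieClassical.HermBasic Cfsg.Agent.ClassicalGeometry.UnitTransv
open Cfsg.Agent.SporadicStructure.UnitTwo
open Cfsg.Agent.R01.Lifts Cfsg.Agent.R01.PSUSix Cfsg.Agent.R01.Label Cfsg.Agent.R01.InvForm
open Cfsg.Agent.R01.Start (zel)
open Cfsg.Agent.R01.Loc
open Cfsg.Agent.R01
open Cfsg.Agent.R01.Frames (Hyp)
open Cfsg.Agent.R01.ComLabel (Iso)
open Cfsg.Agent.ClassicalGeometry.UnitAutBasic (tau pr pr_surjective)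
open Cfsg.Agent.U62.Semi Cfsg.Agent.U62.Semi2
open scoped Matrix

variable {F : Type*} [Field F] [Fintype F] {hF : Fintype.card F = 2 ^ 2}

/-- The local data at a fixed transposition. -/
structure Dat (hF : Fintype.card F = 2 ^ 2) (α : MulAut Spor.Fi22) (t : Spor.Fi22)
    (π : centralizer ({t} : Set Spor.Fi22) →* PSU 6 F 2)
    (lift : (Fin 6 → F) → centralizer ({t} : Set Spor.Fi22)) (e : ℕ) (φ : (Fin 6 → F) → (Fin 6 → F)) :
    Prop where
  tT : t ∈ Base.T
  fixt : α t = t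
  aa : α * α = 1
  lab : Lab hF π (zel t) (zel t) lift
  mem : ∀ x : centralizer ({t} : Set Spor.Fi22), (x : Spor.Fi22) ∈ Base.T ↔ x = zel t ∨ x ∈ Dset lift
  sem : Sem e φ
  act : ∀ v, Iso F v → α (lift v : Spor.Fi22) = lift (φ v)
  inv : ∀ v, φ (φ v) = v

theorem conj_inj : Function.Injective (MulAut.conj : Spor.Fi22 →* MulAut Spor.Fi22) := by
  have hs := Fi22Facts.isSimple
  rw [injective_iff_map_eq_one]
  intro x hx
  have h1 : x ∈ center Spor.Fi22 := by
    rw [mem_center_iff]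
    intro y
    have h2 := DFunLike.congr_fun hx y
    have h3 : x * y * x⁻¹ = y := h2
    rw [mul_inv_eq_iff_eq_mul] at h3
    exact h3.symm
  rcases hs.eq_bot_or_eq_top_of_normal (center Spor.Fi22) inferInstance with h | h
  · rw [h] at h1
    exact mem_bot.1 h1
  · exfalso
    obtain ⟨a, ha, b, hb, hab, -⟩ := kt.pair
    have hc : ∀ x y : Spor.Fi22, x * y = y * x := by
      intro x y
      have : y ∈ center Spor.Fi22 := by rw [h]; exact mem_top y
      exact mem_center_iff.1 this x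
    obtain ⟨g, hg⟩ := kt.trans a ha b hb
    apply hab
    rw [← hg, hc g a, mul_inv_cancel_right]

/-- **Existence of the local data.** -/
theorem exists_dat {α : MulAut Spor.Fi22} (hα : α * α = 1) {t : Spor.Fi22} (ht : t ∈ TA α) :
    ∃ π lift e φ, (e = 1 ∨ e = 2) ∧ Dat Fischer.Unit22.hF α t π lift e φ := by
  obtain ⟨π, lift, L, hL⟩ := Fi22Facts.loc t ht.1
  let E : centralizer ({t} : Set Spor.Fi22) ≃* (centralizer ({t} : Set Spor.Fi22)).map (MulAut.conj : Spor.Fi22 →* MulAut Spor.Fi22) :=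
    (centralizer ({t} : Set Spor.Fi22)).equivMapOfInjective _ conj_inj
  have hE : ∀ x : centralizer ({t} : Set Spor.Fi22), ((E x : (centralizer ({t} : Set Spor.Fi22)).map
      (MulAut.conj : Spor.Fi22 →* MulAut Spor.Fi22)) : MulAut Spor.Fi22) =
      MulAut.conj (x : Spor.Fi22) := fun x => coe_equivMapOfInjective_apply _ _ _ _
  have htL : MulAut.conj t ∈ (centralizer ({t} : Set Spor.Fi22)).map (MulAut.conj : Spor.Fi22 →* MulAut Spor.Fi22) :=
    ⟨t, mem_centralizer_singleton_iff.2 rfl, rfl⟩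
  have L' := lab_transport L E
  have e1 : E (zel t) = ⟨MulAut.conj t, htL⟩ := Subtype.ext (hE _)
  rw [e1] at L'
  have hcj : ∀ x : Spor.Fi22, α * MulAut.conj x * α⁻¹ = MulAut.conj (α x) := by
    intro x
    ext y
    show α (x * (α⁻¹ y) * x⁻¹) = α x * y * (α x)⁻¹
    rw [map_mul, map_mul, map_inv, MulAut.apply_inv_self]
  have hαi : α⁻¹ = α := inv_eq_of_mul_eq_one_left hα
  have hst : ∀ x ∈ centralizer ({t} : Set Spor.Fi22), α x ∈ centralizer ({t} : Set Spor.Fi22) := by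
    intro x hx
    rw [mem_centralizer_singleton_iff] at hx ⊢
    have h1 := congrArg α hx
    rwa [map_mul, map_mul, ht.2] at h1
  have hn : ∀ l ∈ (centralizer ({t} : Set Spor.Fi22)).map (MulAut.conj : Spor.Fi22 →* MulAut Spor.Fi22),
      α * l * α⁻¹ ∈ (centralizer ({t} : Set Spor.Fi22)).map (MulAut.conj : Spor.Fi22 →* MulAut Spor.Fi22) := by
    rintro _ ⟨x, hx, rfl⟩
    exact ⟨α x, hst x hx, (hcj x).symm⟩
  have hn' : ∀ l ∈ (centralizer ({t} : Set Spor.Fi22)).map (MulAut.conj : Spor.Fi22 →* MulAut Spor.Fi22),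
      α⁻¹ * l * α ∈ (centralizer ({t} : Set Spor.Fi22)).map (MulAut.conj : Spor.Fi22 →* MulAut Spor.Fi22) := by
    intro l hl
    have := hn l hl
    rwa [hαi] at this ⊢
  have hnt : Commute α (MulAut.conj t) := by
    have h1 := hcj t
    rw [ht.2] at h1
    exact mul_inv_eq_iff_eq_mul.1 h1
  obtain ⟨e, φ, he, hφ, ha⟩ := Cfsg.Agent.U62.Sys.semi_of_lab htL Fischer.Unit22.hF L' hn hn' hnt
  have act : ∀ v, Iso SporRec.GF4.F4 v → α (lift v : Spor.Fi22) = lift (φ v) := by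
    intro v hv
    have h1 := ha v hv
    rw [hE, hE, hcj] at h1
    exact conj_inj h1
  have hiso : ∀ v, Iso SporRec.GF4.F4 v → Iso SporRec.GF4.F4 (φ v) := fun v hv => hφ.iso Fischer.Unit22.hF he hv
  have hpt : ∀ v, Iso SporRec.GF4.F4 v → Pt v (φ (φ v)) := by
    intro v hv
    have h1 := act _ (hiso v hv)
    rw [← act v hv, Base.aa hα] at h1
    have h2 : lift v = lift (φ (φ v)) := Subtype.ext h1
    exact (L.lift_eq_iff hv.2 (hiso _ (hiso v hv)).2 hv.1 (hiso _ (hiso v hv)).1).1 h2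
  have hsm : ∀ (a : SporRec.GF4.F4), a ≠ 0 → ∀ v, Iso SporRec.GF4.F4 v → α (lift v : Spor.Fi22) = lift (a • φ v) := by
    intro a ha0 v hv
    rw [act v hv, L.smul _ a (hiso v hv).2 ha0]
  rcases he with rfl | rfl
  · obtain ⟨-, a, ha0, hs⟩ := scal_all Fischer.Unit22.hF (Or.inl rfl) (hφ.comp hφ) hpt
    refine ⟨π, lift, 1, fun v => a • φ v, Or.inl rfl, ht.1, ht.2, hα, L, hL,
      hφ.smul' Fischer.Unit22.hF ha0, fun v hv => hsm a ha0 v hv, fun v => ?_⟩
    rw [hφ.smul, pow_one, hs, smul_smul, smul_smul]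
    have : a * a * a = 1 := by linear_combination Cfsg.Agent.U62.Semi.norm_one Fischer.Unit22.hF ha0
    rw [this, one_smul]
  · obtain ⟨-, a, ha0, hs⟩ := scal_all Fischer.Unit22.hF (Or.inl rfl)
      ((hφ.comp hφ).four Fischer.Unit22.hF) hpt
    refine ⟨π, lift, 2, φ, Or.inr rfl, ht.1, ht.2, hα, L, hL, hφ, act, fun v => ?_⟩
    by_cases hv : v = 0
    · rw [hv, hφ.map_zero, hφ.map_zero]
    have h1 : φ (φ (φ v)) = a • φ v := hs (φ v)
    rw [hs v, hφ.smul] at h1
    obtain ⟨w, hw⟩ := exists_herm_ne_zero Fischer.Unit22.hF hv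
    have h2 : φ v ≠ 0 := by
      intro h0
      have := hφ.herm v w
      rw [h0, herm_zero_left] at this
      exact hw ((pow_eq_zero_iff two_ne_zero).1 this.symm)
    have h3 : (a ^ 2 - a) • φ v = 0 := by rw [sub_smul, h1, sub_self]
    have h4 := sub_eq_zero.1 ((smul_eq_zero.1 h3).resolve_right h2)
    have h5 : a = 1 := mul_left_cancel₀ ha0 (by linear_combination h4 : a * a = a * 1)
    rw [hs, h5, one_smul]

section lin

variable {α : MulAut Spor.Fi22} {t : Spor.Fi22} {π : centralizer ({t} : Set Spor.Fi22) →* PSU 6 F 2}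
  {lift : (Fin 6 → F) → centralizer ({t} : Set Spor.Fi22)} {φ : (Fin 6 → F) → (Fin 6 → F)}

/-- A linear isometry of order two as an element of `SU`. -/
theorem exists_su (hF : Fintype.card F = 2 ^ 2) (h : Sem 1 φ) (hφ : ∀ v, φ (φ v) = v) :
    ∃ s : SU 6 F 2, ∀ v, act s v = φ v := by
  obtain ⟨M, hM, hd3⟩ := exists_mat hF h
  have hMM : M * M = 1 := by
    apply Matrix.toLin'.injective
    apply LinearMap.ext
    intro v
    rw [Matrix.toLin'_apply, Matrix.toLin'_apply, ← Matrix.mulVec_mulVec, hM, hM, hφ,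
      Matrix.one_mulVec]
  have hd2 : M.det * M.det = 1 := by rw [← Matrix.det_mul, hMM, Matrix.det_one]
  have hd : M.det = 1 := by linear_combination hd3 - M.det * hd2
  exact ⟨mk M hd (fun x y => by rw [hM, hM, h.herm, pow_one]), fun v => by rw [act_mk, hM]⟩

/-- **The linear case**: `α` is inner. -/
theorem Dat.inner (D : Dat hF α t π lift 1 φ) : ∃ y, α = MulAut.conj y := by
  obtain ⟨s, hs⟩ := exists_su hF D.sem D.inv
  obtain ⟨c, hc⟩ := D.lab.ext.surj (pr 6 F 2 s)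
  have hconj : ∀ v, Iso F v → c * lift v * c⁻¹ = lift (φ v) := by
    intro v hv
    rw [D.lab.conj c s v hc hv.1 hv.2, hs]
  set β : MulAut Spor.Fi22 := (MulAut.conj (c : Spor.Fi22))⁻¹ * α with hβ
  have hβv : ∀ v, Iso F v → β (lift v : Spor.Fi22) = lift v := by
    intro v hv
    have h1 : (c : Spor.Fi22) * lift v * (c : Spor.Fi22)⁻¹ = lift (φ v) :=
      congrArg Subtype.val (hconj v hv)
    show (MulAut.conj (c : Spor.Fi22))⁻¹ (α (lift v : Spor.Fi22)) = lift v
    rw [D.act v hv, ← h1, MulAut.inv_apply, MulEquiv.symm_apply_eq, MulAut.conj_apply]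
  obtain ⟨u, v, w, hf, h7⟩ := Cfsg.Agent.R01.FusionMain.exists_seven D.lab
  have hu : Iso F u := ⟨hf.u_ne, hf.uu⟩
  have hv : Iso F v := ⟨hf.v_ne, hf.vv⟩
  have hw : Iso F w := ⟨hf.w_ne, hf.ww⟩
  have h2 := two_eq_zero hF
  have hadd : ∀ a b : Fin 6 → F, hermForm 6 F 2 a a = 0 → hermForm 6 F 2 b b = 0 →
      hermForm 6 F 2 a b = 0 → hermForm 6 F 2 (a + b) (a + b) = 0 := by
    intro a b ha hb hab
    rw [herm_add_left, herm_add_right hF, herm_add_right hF, ha, hb, hab, herm_eq_zero_swap hF hab]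
    ring
  have hind := hf.ind
  have huv : Iso F (u + v) := by
    refine ⟨fun h0 => ?_, hadd _ _ hf.uu hf.vv hf.uv⟩
    have := (hind 1 1 0 (by rw [one_smul, one_smul, zero_smul, add_zero, h0])).1
    exact one_ne_zero this
  have huw : Iso F (u + w) := by
    refine ⟨fun h0 => ?_, hadd _ _ hf.uu hf.ww hf.uw⟩
    have := (hind 1 0 1 (by rw [one_smul, one_smul, zero_smul, add_zero, h0])).1
    exact one_ne_zero this
  have hvw : Iso F (v + w) := by
    refine ⟨fun h0 => ?_, hadd _ _ hf.vv hf.ww hf.vw⟩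
    have := (hind 0 1 1 (by rw [one_smul, one_smul, zero_smul, zero_add, h0])).2.1
    exact one_ne_zero this
  have huvw : Iso F (u + v + w) := by
    refine ⟨fun h0 => ?_, hadd _ _ huv.2 hf.ww ?_⟩
    · have := (hind 1 1 1 (by rw [one_smul, one_smul, one_smul, h0])).1
      exact one_ne_zero this
    · rw [herm_add_left, hf.uw, hf.vw, add_zero]
  have hmT : ∀ x, Iso F x → (lift x : Spor.Fi22) ∈ Base.T := fun x hx =>
    (D.mem _).2 (Or.inr (Lab.mem_D hx.1 hx.2))
  have hin : ∃ x : Spor.Fi22, β = MulAut.conj x := by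
    refine D8.Fi22.SylAut.inner_of_fix (l := [(lift u : Spor.Fi22), lift v, lift w, lift (u + v),
      lift (u + w), lift (v + w), lift (u + v + w)]) (⟨3, rfl⟩) ?_ ?_ ?_
    · simp only [List.mem_cons, List.not_mem_nil, or_false]
      rintro x (rfl | rfl | rfl | rfl | rfl | rfl | rfl)
      exacts [hmT _ hu, hmT _ hv, hmT _ hw, hmT _ huv, hmT _ huw, hmT _ hvw, hmT _ huvw]
    · simp only [List.prod_cons, List.prod_nil, mul_one]
      have := congrArg Subtype.val h7
      simp only [Subgroup.coe_mul, Subgroup.coe_one, mul_assoc] at this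
      exact this
    · simp only [List.mem_cons, List.not_mem_nil, or_false]
      rintro x (rfl | rfl | rfl | rfl | rfl | rfl | rfl)
      exacts [hβv _ hu, hβv _ hv, hβv _ hw, hβv _ huv, hβv _ huw, hβv _ hvw, hβv _ huvw]
  obtain ⟨y, hy⟩ := hin
  refine ⟨(c : Spor.Fi22) * y, ?_⟩
  rw [map_mul, ← hy, hβ, mul_inv_cancel_left]

end lin

section semi

variable {α : MulAut Spor.Fi22} {t : Spor.Fi22} {π : centralizer ({t} : Set Spor.Fi22) →* PSU 6 F 2}
  {lift : (Fin 6 → F) → centralizer ({t} : Set Spor.Fi22)} {φ : (Fin 6 → F) → (Fin 6 → F)}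

/-- the fixed isotropic vectors label fixed transpositions -/
theorem Dat.mem_A {e : ℕ} (D : Dat hF α t π lift e φ) {v : Fin 6 → F} (hv : Iso F v) (h : φ v = v) :
    (lift v : Spor.Fi22) ∈ A α t := by
  refine ⟨⟨(D.mem _).2 (Or.inr (Lab.mem_D hv.1 hv.2)), ?_⟩, fun h1 => ?_, ?_⟩
  · rw [D.act v hv, h]
  · have h2 : lift v = zel t := Subtype.ext h1
    exact D.lab.z_notMem (h2 ▸ Lab.mem_D hv.1 hv.2)
  · exact mem_centralizer_singleton_iff.1 (lift v).2

/-- the members of `A α t` are labelled by fixed isotropic vectors -/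
theorem Dat.exists_v (D : Dat hF α t π lift 2 φ) {s : Spor.Fi22} (hs : s ∈ A α t) :
    ∃ v, Iso F v ∧ φ v = v ∧ s = lift v := by
  have hsC : s ∈ centralizer ({t} : Set Spor.Fi22) := mem_centralizer_singleton_iff.2 hs.2.2
  obtain ⟨v, hv0, hv, hx⟩ : (⟨s, hsC⟩ : centralizer ({t} : Set Spor.Fi22)) ∈ Dset lift := by
    rcases (D.mem ⟨s, hsC⟩).1 hs.1.1 with h | h
    · exact absurd (congrArg Subtype.val h) hs.2.1
    · exact h
  have hvi : Iso F v := ⟨hv0, hv⟩
  have hφi : Iso F (φ v) := D.sem.iso hF (Or.inr rfl) hvi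
  have h1 : lift v = lift (φ v) := by
    apply Subtype.ext
    rw [← D.act v hvi, ← hx]
    exact hs.1.2.symm
  obtain ⟨c, hc0, hc⟩ := (D.lab.lift_eq_iff hv hφi.2 hv0 hφi.1).1 h1
  -- rescale
  refine ⟨c⁻¹ • v, ⟨smul_ne_zero (inv_ne_zero hc0) hv0, ?_⟩, ?_, ?_⟩
  · rw [herm_smul_left, herm_smul_right, hv, mul_zero, mul_zero]
  · rw [D.sem.smul, hc, smul_smul]
    congr 1
    have h3 : c ^ 3 = 1 := pow_three hF hc0
    field_simp
  · rw [D.lab.smul v c⁻¹ hv (inv_ne_zero hc0)]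
    exact congrArg Subtype.val hx

/-- **The type with a twin.** -/
theorem Dat.twin (D : Dat hF α t π lift 2 φ) {g k : Fin 3 → (Fin 6 → F)} (hb : Hyp g k)
    (hg : ∀ i, φ (g i) = g i) (h1 : φ (k 1) = k 1) (h2 : φ (k 2) = k 2) (h0 : φ (k 0) = k 0 + g 0) :
    Tw α t (lift (g 0)) := by
  have hgi := hyp_iso_g hF hb
  have hki := hyp_iso_k hF hb
  have two := two_eq_zero hF
  -- a fixed isotropic vector is orthogonal to `g 0`
  have key : ∀ v, Iso F v → φ v = v → hermForm 6 F 2 v (g 0) = 0 := by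
    intro v hv hf
    have e1 : hermForm 6 F 2 v (k 0) ^ 2 = hermForm 6 F 2 v (k 0) + hermForm 6 F 2 v (g 0) := by
      rw [← D.sem.herm, hf, h0, herm_add_right hF]
    have f0 : ∀ w, φ w = w → hermForm 6 F 2 v w ^ 2 = hermForm 6 F 2 v w := by
      intro w hw
      rw [← D.sem.herm, hf, hw]
    have hx := congrArg (fun y => hermForm 6 F 2 y v) (hyp_expand hF hb v)
    simp only [Fin.sum_univ_three, herm_add_left, herm_smul_left] at hx
    rw [herm_swap hF v (g 0), herm_swap hF v (g 1), herm_swap hF v (g 2), herm_swap hF v (k 0),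
      herm_swap hF v (k 1), herm_swap hF v (k 2), hv.2, f0 _ (hg 0), f0 _ (hg 1), f0 _ (hg 2), e1,
      f0 _ h1, f0 _ h2] at hx
    have e2 := f0 _ (hg 0)
    linear_combination -hx - e2 - (hermForm 6 F 2 v (k 0) * hermForm 6 F 2 v (g 0) +
      hermForm 6 F 2 v (k 1) * hermForm 6 F 2 v (g 1) +
      hermForm 6 F 2 v (k 2) * hermForm 6 F 2 v (g 2)) * two
  refine ⟨D.mem_A (hgi 0) (hg 0), ?_, ?_⟩
  · intro r hr
    obtain ⟨v, hv, hf, rfl⟩ := D.exists_v hr
    have := (D.lab.commute_iff hv.2 (hgi 0).2 hv.1 (hgi 0).1).2 (key v hv hf)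
    exact congrArg Subtype.val this.eq
  · intro r hr hq
    obtain ⟨v, hv, hf, rfl⟩ := D.exists_v hr
    have ho : ∀ w, Iso F w → φ w = w → hermForm 6 F 2 v w = 0 := by
      intro w hw hwf
      rw [← D.lab.commute_iff hv.2 hw.2 hv.1 hw.1]
      exact Subtype.ext (hq _ (D.mem_A hw hwf)).symm
    have hx := hyp_expand hF hb v
    simp only [Fin.sum_univ_three] at hx
    rw [ho _ (hgi 0) (hg 0), ho _ (hgi 1) (hg 1), ho _ (hgi 2) (hg 2), ho _ (hki 1) h1, ho _ (hki 2) h2,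
      zero_smul, zero_smul, zero_smul, zero_smul, zero_smul] at hx
    simp only [add_zero] at hx
    have hc : hermForm 6 F 2 v (k 0) ≠ 0 := by
      intro h3
      rw [h3, zero_smul] at hx
      exact hv.1 hx
    have h4 := D.lab.smul (g 0) _ (hgi 0).2 hc
    rw [← hx] at h4
    exact congrArg Subtype.val h4

end semi

end Cfsg.Agent.OddHalf.NI3.Ex.FiRow.Semi
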