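import Cfsg.Agent.OddHalf.NI3.Ex.FiRow.Base

/-!
# (EX3), row `Fi22`: twins (helper286)

`A α t`: the transpositions fixed by `α`, commuting with `t`, different from `t`.
`Tw α t s`: `s ∈ A α t` commutes with all of `A α t` and is the only one.
If every fixed transposition has a twin, then the products `t t'` generate a normal 2-subgroup of `fix α`.
-/

set_option autoImplicit false
set_option linter.style.haveILetI false

namespace Cfsg.Agent.OddHalf.NI3.Ex.FiRow.Twin

open Subgroup Cfsg Cfsg.Agent.OddHalf.NI Cfsg.Agent.OddHalf.NI.Ex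
open Cfsg.Agent.OddHalf.NI3.Ex.FiRow.Base

/-- the other fixed transpositions commuting with `t` -/
def A (α : MulAut Spor.Fi22) (t : Spor.Fi22) : Set Spor.Fi22 := {s | s ∈ TA α ∧ s ≠ t ∧ s * t = t * s}

/-- `s` is the twin of `t` -/
structure Tw (α : MulAut Spor.Fi22) (t s : Spor.Fi22) : Prop where
  mem : s ∈ A α t
  comm : ∀ r ∈ A α t, r * s = s * r
  uniq : ∀ r ∈ A α t, (∀ q ∈ A α t, q * r = r * q) → r = s

section

variable {α : MulAut Spor.Fi22}

theorem TA_conj {g t : Spor.Fi22} (hg : α g = g) (ht : t ∈ TA α) : g * t * g⁻¹ ∈ TA α := by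
  refine ⟨kt.conj g t ht.1, ?_⟩
  rw [map_mul, map_mul, map_inv, hg, ht.2]

theorem A_conj {g t s : Spor.Fi22} (hg : α g = g) (hs : s ∈ A α t) : g * s * g⁻¹ ∈ A α (g * t * g⁻¹) := by
  refine ⟨TA_conj hg hs.1, fun h => hs.2.1 ?_, ?_⟩
  · exact mul_left_cancel (mul_right_cancel h)
  · calc g * s * g⁻¹ * (g * t * g⁻¹) = g * (s * t) * g⁻¹ := by group
      _ = g * (t * s) * g⁻¹ := by rw [hs.2.2]
      _ = g * t * g⁻¹ * (g * s * g⁻¹) := by group

theorem inv_fix {g : Spor.Fi22} (hg : α g = g) : α g⁻¹ = g⁻¹ := by rw [map_inv, hg]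

theorem A_conj' {g t s : Spor.Fi22} (hg : α g = g) (hs : s ∈ A α (g * t * g⁻¹)) : g⁻¹ * s * g ∈ A α t := by
  have h := A_conj (inv_fix hg) hs
  have e1 : g⁻¹ * (g * t * g⁻¹) * g⁻¹⁻¹ = t := by group
  have e2 : g⁻¹ * s * g⁻¹⁻¹ = g⁻¹ * s * g := by group
  rwa [e1, e2] at h

theorem comm_conj {g r s : Spor.Fi22} (h : r * s = s * r) :
    (g * r * g⁻¹) * (g * s * g⁻¹) = (g * s * g⁻¹) * (g * r * g⁻¹) := by
  calc (g * r * g⁻¹) * (g * s * g⁻¹) = g * (r * s) * g⁻¹ := by group
    _ = g * (s * r) * g⁻¹ := by rw [h]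
    _ = (g * s * g⁻¹) * (g * r * g⁻¹) := by group

theorem Tw.conj {t s g : Spor.Fi22} (hg : α g = g) (h : Tw α t s) : Tw α (g * t * g⁻¹) (g * s * g⁻¹) := by
  refine ⟨A_conj hg h.mem, fun r hr => ?_, fun r hr hq => ?_⟩
  · have h1 := comm_conj (g := g) (h.comm _ (A_conj' hg hr))
    have e : g * (g⁻¹ * r * g) * g⁻¹ = r := by group
    rwa [e] at h1
  · have h1 := h.uniq (g⁻¹ * r * g) (A_conj' hg hr) fun q hq' => by
      have h2 := comm_conj (g := g⁻¹) (hq _ (A_conj hg hq'))
      have e1 : g⁻¹ * (g * q * g⁻¹) * g⁻¹⁻¹ = q := by group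
      have e2 : g⁻¹ * r * g⁻¹⁻¹ = g⁻¹ * r * g := by group
      rwa [e1, e2] at h2
    rw [← h1]
    group

theorem Tw.eq {t s s' : Spor.Fi22} (h : Tw α t s) (h' : Tw α t s') : s = s' :=
  h'.uniq s h.mem h.comm

/-- Every fixed transposition has a twin. -/
def All (α : MulAut Spor.Fi22) : Prop := ∀ t ∈ TA α, ∃ s, Tw α t s

theorem symm (hA : All α) {t s : Spor.Fi22} (ht : t ∈ TA α) (h : Tw α t s) : Tw α s t := by
  obtain ⟨r, hr⟩ := hA s h.mem.1
  have hts : t ∈ A α s := ⟨ht, h.mem.2.1.symm, h.mem.2.2.symm⟩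
  have hsub : ∀ q ∈ A α t, q ≠ s → q ∈ A α s := fun q hq hne => ⟨hq.1, hne, h.comm q hq⟩
  have hrt : t * r = r * t := hr.comm t hts
  by_cases e : r = t
  · rwa [e] at hr
  exfalso
  have h1 : r ∈ A α t := ⟨hr.mem.1, e, hrt.symm⟩
  have h2 : r = s := by
    refine h.uniq r h1 fun q hq => ?_
    by_cases hqs : q = s
    · rw [hqs]; exact hr.mem.2.2.symm
    · exact hr.comm q (hsub q hq hqs)
  exact hr.mem.2.1 h2

/-- commuting with `t` is the same as commuting with its twin -/
theorem comm_iff (hA : All α) {t s u : Spor.Fi22} (ht : t ∈ TA α) (h : Tw α t s) (hu : u ∈ TA α) :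
    u * t = t * u ↔ u * s = s * u := by
  have h' := symm hA ht h
  constructor
  · intro hc
    by_cases e : u = t
    · rw [e]; exact h.mem.2.2.symm
    · exact h.comm u ⟨hu, e, hc⟩
  · intro hc
    by_cases e : u = s
    · rw [e]; exact h.mem.2.2
    · exact h'.comm u ⟨hu, e, hc⟩

theorem sq {t : Spor.Fi22} (ht : t ∈ TA α) : t * t = 1 := kt.sq t ht.1

theorem inv {t : Spor.Fi22} (ht : t ∈ TA α) : t⁻¹ = t := inv_eq_of_mul_eq_one_left (sq ht)

theorem braid {t u : Spor.Fi22} (ht : t ∈ TA α) (hu : u ∈ TA α) (h : ¬ t * u = u * t) :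
    t * u * t = u * t * u := (kt.three t ht.1 u hu.1).resolve_left h

/-- **The products with the twin commute.** -/
theorem prod_comm (hA : All α) {t t' u u' : Spor.Fi22} (ht : t ∈ TA α) (hu : u ∈ TA α) (h : Tw α t t')
    (k : Tw α u u') : (t * t') * (u * u') = (u * u') * (t * t') := by
  have hT := h.mem.1
  have hU := k.mem.1
  have htt := h.mem.2.2
  have huu := k.mem.2.2
  by_cases c1 : u * t = t * u
  · have c2 : u * t' = t' * u := (comm_iff hA ht h hu).1 c1
    have c3 : t * u' = u' * t := (comm_iff hA hu k ht).1 c1.symm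
    have c4 : t' * u' = u' * t' := (comm_iff hA hu k hT).1 c2.symm
    have e1 : Commute t u := c1.symm
    have e2 : Commute t' u := c2.symm
    have e3 : Commute t u' := c3
    have e4 : Commute t' u' := c4
    exact ((e1.mul_left e2).mul_right (e3.mul_left e4)).eq
  · have c1' : ¬ t * u = u * t := fun e => c1 e.symm
    have c2 : ¬ t' * u = u * t' := fun e => c1 ((comm_iff hA ht h hu).2 e.symm)
    have b1 := braid ht hu c1'
    have b2 := braid hT hu c2
    -- the twin of `t u t = u t u`
    have k1 := k.conj (g := t) ht.2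
    have k2 := h.conj (g := u) hu.2
    rw [inv ht] at k1
    rw [inv hu, ← b1] at k2
    have e1 : t * u' * t = u * t' * u := k1.eq k2
    have e2 : u' = t * t' * u * (t * t') := by
      calc u' = t * t * u' * (t * t) := by rw [sq ht]; group
        _ = t * (t * u' * t) * t := by group
        _ = t * (u * t' * u) * t := by rw [e1]
        _ = t * (t' * u * t') * t := by rw [b2]
        _ = t * t' * u * (t' * t) := by group
        _ = t * t' * u * (t * t') := by rw [htt]
    have zz : t * t' * (t * t') = 1 := by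
      calc t * t' * (t * t') = t * (t' * t) * t' := by group
        _ = (t * t) * (t' * t') := by rw [htt]; group
        _ = 1 := by rw [sq ht, sq hT, one_mul]
    have e3 : t * t' * u' * (t * t') = u := by
      rw [e2]
      calc t * t' * (t * t' * u * (t * t')) * (t * t') = (t * t' * (t * t')) * u * (t * t' * (t * t')) := by group
        _ = u := by rw [zz]; group
    calc t * t' * (u * u') = t * t' * (u * u') * (t * t' * (t * t')) := by rw [zz, mul_one]
      _ = (t * t' * u * (t * t')) * ((t * t' * (t * t')) * (t * t' * (t * t'))) *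
          (t * t' * u' * (t * t')) * (t * t') := by
          have e4 : t * t' * (u * u') * (t * t' * (t * t')) =
            t * t' * u * ((t * t' * (t * t'))) * u' * (t * t' * (t * t')) := by rw [zz]; group
          rw [e4, zz]
          calc t * t' * u * 1 * u' * 1 = t * t' * u * (t * t' * (t * t')) * u' * 1 := by rw [zz]
            _ = t * t' * u * (t * t') * (1 * 1) * (t * t' * u' * (t * t')) * (t * t') := by
              have e5 : t * t' * u' * (t * t') * (t * t') = t * t' * u' := by
                calc t * t' * u' * (t * t') * (t * t') = t * t' * u' * (t * t' * (t * t')) := by group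
                  _ = t * t' * u' := by rw [zz, mul_one]
              calc t * t' * u * (t * t' * (t * t')) * u' * 1
                  = t * t' * u * (t * t') * (t * t' * u') := by group
                _ = t * t' * u * (t * t') * (t * t' * u' * (t * t') * (t * t')) := by rw [e5]
                _ = _ := by group
      _ = u' * u * (t * t') := by rw [← e2, e3, zz]; group
      _ = u * u' * (t * t') := by rw [huu]

end

/-- **If every fixed transposition has a twin, there are no components.** -/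
theorem false_of_all {α : MulAut Spor.Fi22} (hα : α * α = 1) (hA : All α) {J : Subgroup Spor.Fi22}
    (hJ : CompIn (fix α) J) : False := by
  obtain ⟨t, ht, hat⟩ := exists_fixed hα
  have htA : t ∈ TA α := ⟨ht, hat⟩
  obtain ⟨s, hs⟩ := hA t htA
  set P : Set Spor.Fi22 := {x | ∃ t ∈ TA α, ∃ s, Tw α t s ∧ x = t * s} with hP
  have hPc : ∀ x ∈ P, ∀ y ∈ P, x * y = y * x := by
    rintro x ⟨t, ht, s, hs, rfl⟩ y ⟨u, hu, v, hv, rfl⟩
    exact prod_comm hA ht hu hs hv
  have hPs : ∀ x ∈ P, x * x = 1 := by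
    rintro x ⟨t, ht, s, hs, rfl⟩
    calc t * s * (t * s) = t * (s * t) * s := by group
      _ = (t * t) * (s * s) := by rw [hs.mem.2.2]; group
      _ = 1 := by rw [sq ht, sq hs.mem.1, one_mul]
  have hPa : ∀ x ∈ P, x ∈ fix α := by
    rintro x ⟨t, ht, s, hs, rfl⟩
    exact (fix α).mul_mem ht.2 hs.mem.1.2
  have hPn : ∀ g ∈ fix α, ∀ x ∈ P, g * x * g⁻¹ ∈ P := by
    rintro g hg x ⟨t, ht, s, hs, rfl⟩
    refine ⟨_, TA_conj hg ht, _, hs.conj hg, ?_⟩
    group
  have hV2 := D8.Fi22.SylAut.isPGroup_closure hPs hPc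
  have hVa : closure P ≤ fix α := by
    rw [closure_le]
    exact fun x hx => hPa x hx
  have hVn : ∀ g ∈ fix α, ∀ x ∈ closure P, g * x * g⁻¹ ∈ closure P := by
    intro g hg
    have h1 : closure P ≤ (closure P).comap (MulAut.conj g).toMonoidHom := by
      rw [closure_le]
      exact fun x hx => subset_closure (hPn g hg x hx)
    exact fun x hx => h1 hx
  set F := fix α with hF
  have h3 := Cfsg.Agent.Lib.ComponentSolvable.commutator_component_solvable_eq_bot hJ.comp
    (R := (closure P).subgroupOf F)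
    (by
      haveI : Fact (Nat.Prime 2) := ⟨Nat.prime_two⟩
      haveI : Group.IsNilpotent ↥((closure P).subgroupOf F) :=
        (hV2.comap_of_injective _ F.subtype_injective).isNilpotent
      infer_instance)
    (by
      intro x _
      rw [mem_normalizer_iff]
      have h5 : ∀ x : F, ∀ y ∈ (closure P).subgroupOf F, x * y * x⁻¹ ∈ (closure P).subgroupOf F :=
        fun x y hy => hVn x x.2 y hy
      intro y
      refine ⟨h5 x y, fun h6 => ?_⟩
      have h7 := h5 x⁻¹ _ h6
      rwa [inv_inv, show x⁻¹ * (x * y * x⁻¹) * x = y by group] at h7)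
  rw [commutator_eq_bot_iff_le_centralizer] at h3
  have hts : t * s ∈ P := ⟨t, htA, s, hs, rfl⟩
  obtain ⟨-, j, hj, hne⟩ := pair_moves hα ht hs.mem.1.1 hs.mem.2.1.symm hs.mem.2.2.symm
    (by rw [map_mul, hat, hs.mem.1.2]) hJ
  apply hne
  have h4 := mem_centralizer_iff.1 (h3 (show (⟨j, hJ.le hj⟩ : F) ∈ J.subgroupOf F from hj))
    ⟨t * s, hPa _ hts⟩ (subset_closure hts)
  exact congrArg Subtype.val h4

end Cfsg.Agent.OddHalf.NI3.Ex.FiRow.Twin
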